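import Cfsg.Agent.Lib.Classical.TensorSymp.Gen
import Cfsg.Agent.Lib.Classical.TensorOrthNotMax
import Cfsg.Agent.Lib.Classical.AschSympStd
import Cfsg.Agent.Lib.Classical.OrthStab

set_option autoImplicit false
set_option linter.unusedSectionVars false

/-!
The stabiliser in `Ω⁺` of a tensor product of two symplectic spaces of different dimensions is maximal.
-/

namespace CfsgLib.Classical.TensorSymp

open Matrix CfsgLib.Classical.TensorMax
open scoped MatrixGroups Kronecker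

variable {F : Type*} [Field F]

/-- The coordinates of a tensor decomposition. -/
def coords {n : ℕ} {α β : Type} (e : Fin n ≃ α × β) (P : GL (Fin n) F) : (α × β → F) →ₗ[F] (Fin n → F) :=
  (Matrix.mulVecLin (P : Matrix (Fin n) (Fin n) F)).comp (LinearMap.funLeft F F e)

theorem coords_apply {n : ℕ} {α β : Type} (e : Fin n ≃ α × β) (P : GL (Fin n) F) (z : α × β → F) :
    coords e P z = (P : Matrix (Fin n) (Fin n) F) *ᵥ (z ∘ e) := rfl

theorem aform_gram [Fintype F] {k : ℕ} {f : (Fin k → F) → (Fin k → F) → F} (hf : Cfsg.Geo.IsSymplecticForm f) {c : F}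
    (hc : c ≠ 0) : AForm (c • Cfsg.Geo.gramMatrix f) := by
  refine ⟨?_, fun x => ?_, ?_⟩
  · ext i j
    simp only [Matrix.transpose_apply, Matrix.smul_apply, Matrix.neg_apply, smul_eq_mul, Cfsg.Geo.gramMatrix]
    rw [hf.skew]
    ring
  · rw [Matrix.smul_mulVec, dotProduct_smul, ← TensorOrthNotMax.apply_eq_gram hf.bilinear, hf.alternating,
      smul_zero]
  · intro h0
    obtain ⟨v, hv, hv'⟩ := Matrix.exists_mulVec_eq_zero_iff.2 h0
    obtain ⟨⟨x, hx⟩, -⟩ := hf.nondegenerate v hv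
    rw [Matrix.smul_mulVec, smul_eq_zero] at hv'
    exact hx (by rw [TensorOrthNotMax.apply_eq_gram hf.bilinear, hv'.resolve_left hc, dotProduct_zero])

theorem isMaximalIn [Fintype F] {n : ℕ} (hn : 12 ≤ n) {Q : QuadraticForm F (Fin n → F)} {n₁ n₂ : ℕ}
    (h12 : n₁ < n₂) (hex : ¬ (Fintype.card F = 2 ∧ n₁ = 2)) (e : Fin n ≃ Fin n₁ × Fin n₂) (P : GL (Fin n) F)
    {f₁ : (Fin n₁ → F) → (Fin n₁ → F) → F} {f₂ : (Fin n₂ → F) → (Fin n₂ → F) → F}
    (hf₁ : Cfsg.Geo.IsSymplecticForm f₁) (hf₂ : Cfsg.Geo.IsSymplecticForm f₂)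
    (hT : Cfsg.Geo.IsTensorFormStructure id (QuadraticMap.polar ⇑Q) f₁ f₂ e P)
    (hpure : ∀ (x₁ : Fin n₁ → F) (x₂ : Fin n₂ → F),
      Q ((P : Matrix (Fin n) (Fin n) F) *ᵥ ((fun a : Fin n₁ × Fin n₂ => x₁ a.1 * x₂ a.2) ∘ e)) = 0) :
    Cfsg.Geo.IsMaximalIn (Cfsg.Geo.omegaGL ⇑Q)
      (Cfsg.Geo.tensorProductSubgroup n₁ n₂ e P ⊓ Cfsg.Geo.omegaGL ⇑Q) := by
  classical
  have hcard : n = n₁ * n₂ := by simpa [Fintype.card_prod] using Fintype.card_congr e
  obtain ⟨i, hi⟩ := CfsgLib.Asch.even_of_symplectic hf₁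
  obtain ⟨j, hj⟩ := CfsgLib.Asch.even_of_symplectic hf₂
  have hpos : 0 < n₁ := by
    by_contra h
    rw [Nat.eq_zero_of_not_pos h, zero_mul] at hcard
    omega
  have hlt : n₁ + 2 ≤ n₂ := by omega
  have hfive : 5 ≤ n₂ := by
    by_contra h
    have : n₁ * n₂ ≤ 2 * 4 := Nat.mul_le_mul (by omega) (by omega)
    omega
  obtain ⟨c, hc, hB⟩ := hT
  set φ : GL (Fin n₁ × Fin n₂) F ≃* GL (Fin n) F :=
    (Cfsg.Geo.glReindex (F := F) e.symm).trans (MulAut.conj P) with hφ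
  set Q₀ : QuadraticForm F (Fin n₁ × Fin n₂ → F) := Q.comp (coords e P) with hQ₀
  have hap : ∀ (g : GL (Fin n₁ × Fin n₂) F) z, (φ g).1 *ᵥ coords e P z = coords e P (g.1 *ᵥ z) := by
    intro g z
    show ((P : Matrix (Fin n) (Fin n) F) * Matrix.submatrix g.1 e e * (P⁻¹ : GL (Fin n) F).1) *ᵥ _ = _
    rw [coords_apply, coords_apply, Matrix.mulVec_mulVec, Matrix.mul_assoc, Units.inv_mul, Matrix.mul_one,
      ← Matrix.mulVec_mulVec, Matrix.submatrix_mulVec_equiv]
    congr 2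
    rw [Function.comp_assoc, Equiv.self_comp_symm, Function.comp_id]
  have hsurj : ∀ v, ∃ z, coords e P z = v := fun v => ⟨((P⁻¹ : GL (Fin n) F).1 *ᵥ v) ∘ e.symm, by
    rw [coords_apply, Function.comp_assoc, Equiv.symm_comp_self, Function.comp_id, Matrix.mulVec_mulVec,
      Units.mul_inv, Matrix.one_mulVec]⟩
  have hiso : (Cfsg.isometryGroup F ⇑Q₀).map φ.toMonoidHom = Cfsg.isometryGroup F ⇑Q := by
    ext x
    constructor
    · rintro ⟨g, hg, rfl⟩ u w
      obtain ⟨z, rfl⟩ := hsurj u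
      show Q ((φ g).1 *ᵥ coords e P z) = Q (coords e P z)
      rw [hap]
      exact hg z z
    · intro hx
      obtain ⟨g, rfl⟩ := φ.surjective x
      refine ⟨g, fun z w => ?_, rfl⟩
      have h0 : Q ((φ g).1 *ᵥ coords e P z) = Q (coords e P z) := hx _ (coords e P w)
      rw [hap] at h0
      exact h0
  have hom : (Cfsg.Geo.omegaGL ⇑Q₀).map φ.toMonoidHom = Cfsg.Geo.omegaGL ⇑Q := by
    simp only [Cfsg.Geo.omegaGL, Cfsg.Omega, Subgroup.map_subtype_commutator, Subgroup.map_commutator, hiso]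
  have homg : ∀ g, φ g ∈ Cfsg.Geo.omegaGL ⇑Q ↔ g ∈ Cfsg.Geo.omegaGL ⇑Q₀ := fun g => by
    rw [← hom]
    exact Subgroup.mem_map_iff_mem (f := φ.toMonoidHom) φ.injective
  haveI : Nonempty (Fin n₁) := ⟨⟨0, by omega⟩⟩
  haveI : Nonempty (Fin n₂) := ⟨⟨0, by omega⟩⟩
  have hkr : ∀ g, φ g ∈ Cfsg.Geo.tensorProductSubgroup n₁ n₂ e P ↔ Tens g.1 := by
    intro g
    constructor
    · rintro ⟨_, ⟨x, ⟨a, b, hx⟩, rfl⟩, hx'⟩
      have : x = g := φ.injective hx'
      exact ⟨_, _, this ▸ hx⟩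
    · rintro ⟨S, T, hST⟩
      have hd : (S ⊗ₖ T).det ≠ 0 := hST ▸ ((Matrix.isUnit_iff_isUnit_det _).1 g.isUnit).ne_zero
      rw [Matrix.det_kronecker] at hd
      have hS : S.det ≠ 0 := fun h0 => hd (by simp [h0, Fintype.card_ne_zero]; omega)
      have hT : T.det ≠ 0 := fun h0 => hd (by simp [h0, Fintype.card_ne_zero]; omega)
      exact ⟨_, ⟨g, ⟨Matrix.GeneralLinearGroup.mkOfDetNeZero S hS, Matrix.GeneralLinearGroup.mkOfDetNeZero T hT,
        hST⟩, rfl⟩, rfl⟩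
  have hpol : ∀ x y, QuadraticMap.polar ⇑Q₀ x y =
      x ⬝ᵥ ((c • Cfsg.Geo.gramMatrix f₁) ⊗ₖ Cfsg.Geo.gramMatrix f₂) *ᵥ y := by
    intro x y
    have h0 : QuadraticMap.polar ⇑Q₀ x y = QuadraticMap.polar ⇑Q (coords e P x) (coords e P y) := by
      simp only [QuadraticMap.polar, hQ₀, QuadraticMap.comp_apply, map_add]
    rw [h0, coords_apply, coords_apply, hB, Matrix.smul_kronecker, Matrix.smul_mulVec, dotProduct_smul, smul_eq_mul,
      Cfsg.Geo.formOfGram, dotProduct]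
    simp only [Matrix.mulVec, dotProduct, id, Finset.mul_sum, mul_assoc]
  have hexcl : 3 ≤ n₁ ∨ ∃ t : F, t ≠ 0 ∧ t ≠ 1 := by
    by_cases h : 3 ≤ n₁
    · exact Or.inl h
    refine Or.inr (by_contra fun hne => hex ⟨?_, by omega⟩)
    push Not at hne
    refine le_antisymm ?_ Fintype.one_lt_card
    calc Fintype.card F = (Finset.univ : Finset F).card := Finset.card_univ.symm
      _ ≤ ({0, 1} : Finset F).card := Finset.card_le_card fun t _ => by
          by_cases ht : t = 0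
          · simp [ht]
          · simp [hne t ht]
      _ ≤ 2 := Finset.card_le_two
  have mk : ∀ M : Subgroup (GL (Fin n₁ × Fin n₂) F), M ≤ Cfsg.Geo.omegaGL ⇑Q₀ →
      (∀ g, g ∈ Cfsg.Geo.omegaGL ⇑Q₀ → Tens g.1 → g ∈ M) →
      Hyp (c • Cfsg.Geo.gramMatrix f₁) (Cfsg.Geo.gramMatrix f₂) Q₀ M := fun M hle ht =>
    { sA := aform_gram hf₁ hc
      sB := by simpa using aform_gram hf₂ (one_ne_zero (α := F))
      polar := hpol
      pure := fun a b => hpure a b
      two_le := by simp only [Fintype.card_fin]; omega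
      lt := by simpa using hlt
      five := by simpa using hfive
      excl := by simpa using hexcl
      le := hle
      tens := ht }
  refine ⟨lt_of_le_of_ne inf_le_right fun hh => ?_, fun K hK hK' => ?_⟩
  · obtain ⟨g, hg, hnt⟩ := (mk _ le_rfl fun g hg _ => hg).exists_not_tens
    refine hnt ((hkr g).1 ?_)
    have := (homg g).2 hg
    rw [← hh] at this
    exact this.1
  · have H := mk (K.comap φ.toMonoidHom) (fun g hg => (homg g).1 (hK' hg))
      fun g hg ht => hK ⟨(hkr g).2 ht, (homg g).2 hg⟩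
    rcases H.dichotomy with h | h
    · refine Or.inl (le_antisymm (fun y hy => ?_) hK)
      obtain ⟨g, rfl⟩ := φ.surjective y
      exact ⟨(hkr g).2 (h g hy), hK' hy⟩
    · refine Or.inr (le_antisymm hK' fun y hy => ?_)
      obtain ⟨g, rfl⟩ := φ.surjective y
      have : g ∈ K.comap φ.toMonoidHom := h ▸ (homg g).1 hy
      exact this

end CfsgLib.Classical.TensorSymp
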