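import Cfsg.Agent.Lib.Classical.TensorSymp.Descent
import Cfsg.Agent.Lib.Classical.OrthOverfieldU

set_option autoImplicit false
set_option linter.unusedSectionVars false

/-!
When every matrix occurs as a level, the root groups of all singular planes lie in the group.
-/

namespace CfsgLib.Classical.TensorSymp

open Matrix CfsgLib.Classical.TensorMax CfsgLib.Orth CfsgLib.Orth.Overfield
open scoped MatrixGroups Kronecker

variable {F : Type*} [Field F] [Finite F] {α β : Type} [Fintype α] [DecidableEq α] [Fintype β] [DecidableEq β]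
variable {JA : Matrix α α F} {JB : Matrix β β F} {Q : QuadraticForm F (α × β → F)}
  {M : Subgroup (GL (α × β) F)}

theorem ten_add_left (a a' : α → F) (b : β → F) : ten (a + a') b = ten a b + ten a' b := by
  ext p; simp [ten, add_mul]

theorem ten_add_right (a : α → F) (b b' : β → F) : ten a (b + b') = ten a b + ten a b' := by
  ext p; simp [ten, mul_add]

theorem ten_sub_left (a a' : α → F) (b : β → F) : ten (a - a') b = ten a b - ten a' b := by
  ext p; simp [ten, sub_mul]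

theorem ten_sub_right (a : α → F) (b b' : β → F) : ten a (b - b') = ten a b - ten a b' := by
  ext p; simp [ten, mul_sub]

theorem ten_smul_left (c : F) (a : α → F) (b : β → F) : ten (c • a) b = c • ten a b := by
  ext p; simp [ten, mul_assoc]

theorem ten_smul_right (c : F) (a : α → F) (b : β → F) : ten a (c • b) = c • ten a b := by
  ext p; simp [ten, mul_left_comm]

theorem single_eq_ten (i : α) (k : β) : (Pi.single (i, k) 1 : α × β → F) = ten (Pi.single i 1) (Pi.single k 1) := by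
  ext ⟨j, l⟩
  simp [ten, Pi.single_apply, Prod.ext_iff]
  split_ifs <;> simp_all

/-- The pure vectors of a hyperplane span it. -/
theorem mem_span_pure (f : (α × β → F) →ₗ[F] F) {a' : α → F} {b' : β → F} (h1 : f (ten a' b') = 1)
    {x : α × β → F} (hx : f x = 0) :
    x ∈ Submodule.span F {y | ∃ a b, y = ten a b ∧ f y = 0} := by
  classical
  set W := Submodule.span F {y : α × β → F | ∃ a b, y = ten a b ∧ f y = 0} with hW
  have hpure : ∀ a b, f (ten a b) = 0 → ten a b ∈ W := fun a b h => Submodule.subset_span ⟨a, b, rfl, h⟩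
  set π : (α × β → F) →ₗ[F] (α × β → F) := LinearMap.id - f.smulRight (ten a' b') with hπ
  have hπx : ∀ z, π z = z - f z • ten a' b' := fun z => rfl
  have main : ∀ a b, π (ten a b) ∈ W := by
    intro a b
    set p := f (ten a b') with hp
    set q := f (ten a' b) with hq
    obtain ⟨a0, ha0⟩ : ∃ a0, a0 = a - p • a' := ⟨_, rfl⟩
    obtain ⟨b0, hb0⟩ : ∃ b0, b0 = b - q • b' := ⟨_, rfl⟩
    have f1 : f (ten a0 b') = 0 := by
      rw [ha0, ten_sub_left, ten_smul_left, map_sub, map_smul, h1, smul_eq_mul, mul_one, hp, sub_self]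
    have f2 : f (ten a' b0) = 0 := by
      rw [hb0, ten_sub_right, ten_smul_right, map_sub, map_smul, h1, smul_eq_mul, mul_one, hq, sub_self]
    set c := f (ten a0 b0) with hc
    have e1 : ten (a0 + a') (b0 - c • b') = ten a0 b0 - c • ten a0 b' + ten a' b0 - c • ten a' b' := by
      rw [ten_add_left, ten_sub_right, ten_sub_right, ten_smul_right, ten_smul_right]
      abel
    have f3 : f (ten (a0 + a') (b0 - c • b')) = 0 := by
      rw [e1]
      simp only [map_sub, map_add, map_smul, f1, f2, h1, ← hc, smul_eq_mul, mul_zero, mul_one, sub_zero, add_zero,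
        sub_self]
    have e0 : ten a b = ten a0 b0 + q • ten a0 b' + p • ten a' b0 + (p * q) • ten a' b' := by
      have ea : a = a0 + p • a' := by rw [ha0, sub_add_cancel]
      have eb : b = b0 + q • b' := by rw [hb0, sub_add_cancel]
      rw [ea, eb]
      simp only [ten_add_left, ten_add_right, ten_smul_left, ten_smul_right]
      module
    have e2 : π (ten a b) = ten (a0 + a') (b0 - c • b') + (c + q) • ten a0 b' + (p - 1) • ten a' b0 := by
      have hf : f (ten a b) = c + p * q := by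
        rw [e0]
        simp only [map_add, map_smul, f1, f2, h1, ← hc, smul_eq_mul, mul_zero, mul_one, add_zero]
      rw [hπx, hf, e0, e1]
      module
    rw [e2]
    exact add_mem (add_mem (hpure _ _ f3) (Submodule.smul_mem _ _ (hpure _ _ f1)))
      (Submodule.smul_mem _ _ (hpure _ _ f2))
  have hall : ∀ z, π z ∈ W := by
    intro z
    rw [pi_eq_sum_univ' z, map_sum]
    refine Submodule.sum_mem _ fun p _ => ?_
    rw [map_smul]
    refine Submodule.smul_mem _ _ ?_
    obtain ⟨i, k⟩ := p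
    rw [single_eq_ten]
    exact main _ _
  have := hall x
  rwa [hπx, hx, zero_smul, sub_zero] at this

namespace Hyp

variable (H : Hyp JA JB Q M)
include H

theorem polar_apply (y : α × β → F) (a : α → F) (b : β → F) :
    QuadraticMap.polar ⇑Q y (ten a b) = (JA *ᵥ a) ⬝ᵥ (kr α (JB *ᵥ b) *ᵥ y) := by
  rw [H.polar, kron_mulVec_ten, Matrix.dotProduct_mulVec, vecMul_kr, dotProduct_comm]

/-- A root element of a pair as a matrix. -/
theorem siegel_val (v r : α → F) (w ψ : β → F) {c : F} {g : Grp Q} (hg : IsSiegel (ten v w) (c • ten r ψ) g) :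
    ((g : GL (α × β) F)).1 = 1 + Np JA JB w ψ (Matrix.vecMulVec ((-c) • v) (JA *ᵥ r)) := by
  refine Matrix.ext_iff_mulVec.2 fun y => ?_
  rw [Matrix.add_mulVec, Matrix.one_mulVec, Np, Matrix.add_mulVec, H.sA.adj_vecMulVec]
  simp only [← Matrix.mulVec_mulVec, Matrix.neg_mulVec, Matrix.mulVec_neg, Matrix.vecMulVec_mulVec, op_smul_eq_smul,
    Matrix.mulVec_smul, kc_mulVec, smul_dotProduct, smul_eq_mul]
  rw [← H.polar_apply, ← H.polar_apply]
  have h2 := hg.2.2 y
  rw [q_smul, H.pure, mul_zero, zero_mul, zero_smul, sub_zero, b_smul_right] at h2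
  rw [show ((g : GL (α × β) F)).1 *ᵥ y = ap g y from rfl, h2]
  module

/-- The root element of a pair. -/
theorem good_pair (hD : ∀ E, D JA JB M E) (v r : α → F) {w ψ : β → F} (hw : w ≠ 0) (hψ : ∀ c : F, ψ ≠ c • w)
    (ho : (JB *ᵥ w) ⬝ᵥ ψ = 0) :
    GoodAt Q (M.comap (Subgroup.subtype _)) (ten v w) (ten r ψ) := by
  refine ⟨by rw [H.polar_ten, dotProduct_comm w, H.sB.swap, ho, neg_zero, mul_zero], fun c g hg => ?_⟩
  obtain ⟨x, hx, hx'⟩ := hD (Matrix.vecMulVec ((-c) • v) (JA *ᵥ r)) w ψ hw hψ ho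
  have e : (g : GL (α × β) F) = x := Units.ext ((H.siegel_val v r w ψ hg).trans hx'.symm)
  show (g : GL (α × β) F) ∈ M
  rwa [e]

/-- The orthogonal of `w` in the second factor is good. -/
theorem good_perp (hD : ∀ E, D JA JB M E) (v r : α → F) {w ψ : β → F} (hw : w ≠ 0)
    (ho : (JB *ᵥ w) ⬝ᵥ ψ = 0) :
    GoodAt Q (M.comap (Subgroup.subtype _)) (ten v w) (ten r ψ) := by
  by_cases hψ : ∀ c : F, ψ ≠ c • w
  · exact H.good_pair hD v r hw hψ ho
  push Not at hψ
  obtain ⟨c, rfl⟩ := hψ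
  obtain ⟨ψ', p1, p2⟩ := H.pair_exists w
  rw [ten_smul_right]
  refine goodAt_smul ?_ c
  have e : ten r w = ten r (w + ψ') - ten r ψ' := by rw [ten_add_right, add_sub_cancel_right]
  rw [e]
  refine goodAt_sub H.nondeg (H.pure _ _) (H.good_pair hD v r hw (fun d h => p1 (d - 1) ?_)
    (by rw [dotProduct_add, H.sB.self, p2, add_zero])) (H.good_pair hD v r hw p1 p2)
  rw [sub_smul, one_smul, ← h, add_sub_cancel_left]

/-- A pure vector sees all the pure vectors orthogonal to it. -/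
theorem good_pure (hD : ∀ E, D JA JB M E) {v s : α → F} {w ψ : β → F} (hv : v ≠ 0) (hw : w ≠ 0)
    (ho : QuadraticMap.polar ⇑Q (ten v w) (ten s ψ) = 0) :
    GoodAt Q (M.comap (Subgroup.subtype _)) (ten v w) (ten s ψ) := by
  by_cases hd : (JB *ᵥ w) ⬝ᵥ ψ = 0
  · exact H.good_perp hD v s hw hd
  set d := (JB *ᵥ w) ⬝ᵥ ψ with hdd
  have hd' : (JB *ᵥ ψ) ⬝ᵥ w = -d := by rw [H.sB.swap]
  have hs : (JA *ᵥ s) ⬝ᵥ v = 0 := by
    rw [H.polar_ten] at ho
    refine (mul_eq_zero.1 ho).resolve_right ?_ |> fun h => by rw [dotProduct_comm]; exact h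
    rw [dotProduct_comm, hd']
    exact neg_ne_zero.2 hd
  obtain ⟨z, hz, hz'⟩ := exists_orth ![JB *ᵥ w, JB *ᵥ ψ] (by have := H.five; simp; omega)
  have z1 : (JB *ᵥ w) ⬝ᵥ z = 0 := hz' 0
  have z2 : (JB *ᵥ ψ) ⬝ᵥ z = 0 := hz' 1
  have z1' : (JB *ᵥ z) ⬝ᵥ w = 0 := by rw [H.sB.swap, z1, neg_zero]
  have z2' : (JB *ᵥ z) ⬝ᵥ ψ = 0 := by rw [H.sB.swap, z2, neg_zero]
  have hzψ : ∀ c : F, ψ ≠ c • z := fun c e => hd (by rw [hdd, e, dotProduct_smul, z1, smul_zero])
  obtain ⟨y₀, hy₀⟩ := H.sB.exists_form_ne hz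
  set y := y₀ + (((JB *ᵥ ψ) ⬝ᵥ y₀) / d) • w - (((JB *ᵥ w) ⬝ᵥ y₀) / d) • ψ with hy
  have y0 : (JB *ᵥ z) ⬝ᵥ y = 1 := by
    rw [hy, dotProduct_sub, dotProduct_add, dotProduct_smul, dotProduct_smul, hy₀, z1', z2', smul_zero, smul_zero,
      add_zero, sub_zero]
  have y1 : (JB *ᵥ w) ⬝ᵥ y = 0 := by
    rw [hy, dotProduct_sub, dotProduct_add, dotProduct_smul, dotProduct_smul, H.sB.self, smul_zero, add_zero,
      smul_eq_mul, ← hdd, div_mul_cancel₀ _ hd, sub_self]
  have y2 : (JB *ᵥ ψ) ⬝ᵥ y = 0 := by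
    rw [hy, dotProduct_sub, dotProduct_add, dotProduct_smul, dotProduct_smul, H.sB.self, smul_zero, sub_zero,
      smul_eq_mul, hd', mul_neg, div_mul_cancel₀ _ hd, add_neg_cancel]
  obtain ⟨a, ha⟩ := H.sA.exists_form_ne hv
  obtain ⟨g, hg, hg'⟩ := hD (Matrix.vecMulVec v (JA *ᵥ s)) z ψ hz hzψ z2'
  let gG : Grp Q := ⟨g, H.iso_mem hg⟩
  have hE : Matrix.vecMulVec v (JA *ᵥ s) *ᵥ v = 0 := by
    rw [Matrix.vecMulVec_mulVec, hs]; simp
  have hap : ∀ (p : α → F) (q : β → F), ap gG (ten p q) = ten p q +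
      (((JB *ᵥ ψ) ⬝ᵥ q) * ((JA *ᵥ s) ⬝ᵥ p)) • ten v z - (((JB *ᵥ z) ⬝ᵥ q) * ((JA *ᵥ v) ⬝ᵥ p)) • ten s ψ := by
    intro p q
    show g.1 *ᵥ ten p q = _
    rw [← kc_mulVec, Matrix.mulVec_mulVec, hg', Matrix.add_mul, Matrix.one_mul, H.np_mul_kc, H.sA.adj_vecMulVec,
      Matrix.mul_neg, smul_neg, Matrix.add_mulVec, Matrix.add_mulVec, Matrix.neg_mulVec, Matrix.smul_mulVec,
      Matrix.smul_mulVec, ← Matrix.mulVec_mulVec, ← Matrix.mulVec_mulVec, Matrix.vecMulVec_mulVec,
      Matrix.vecMulVec_mulVec, op_smul_eq_smul, op_smul_eq_smul, Matrix.mulVec_smul, Matrix.mulVec_smul, kc_mulVec,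
      kc_mulVec, kc_mulVec, smul_smul, smul_smul, ← add_assoc, ← sub_eq_add_neg]
  have hfix : ap gG (ten v w) = ten v w := by
    rw [hap, hs, z1', mul_zero, zero_mul, zero_smul, zero_smul, add_zero, sub_zero]
  have hmov : ap gG (ten a y) = ten a y - ten s ψ := by
    rw [hap, y2, y0, ha, zero_mul, mul_one, zero_smul, one_smul, add_zero]
  have hgM : gG ∈ M.comap (Subgroup.subtype _) := hg
  have h1 := H.good_perp hD v a hw y1
  have h2 := goodAt_conj hgM h1
  rw [hfix, hmov] at h2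
  have := goodAt_sub H.nondeg (H.pure _ _) h1 h2
  rwa [sub_sub_cancel] at this

/-- A singular vector sees all its orthogonal when it sees the pure vectors in it. -/
theorem good_of_pure {u x : α × β → F} (hu : Q u = 0) (hu0 : u ≠ 0)
    (hp : ∀ a b, QuadraticMap.polar ⇑Q u (ten a b) = 0 → GoodAt Q (M.comap (Subgroup.subtype _)) u (ten a b))
    (hx : QuadraticMap.polar ⇑Q u x = 0) : GoodAt Q (M.comap (Subgroup.subtype _)) u x := by
  classical
  obtain ⟨a, b, hab⟩ : ∃ a b, QuadraticMap.polar ⇑Q u (ten a b) ≠ 0 := by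
    by_contra hc
    push Not at hc
    refine hu0 (H.nondeg u fun y => ?_)
    rw [← QuadraticMap.polarBilin_apply_apply, pi_eq_sum_univ' y, map_sum]
    refine Finset.sum_eq_zero fun p _ => ?_
    obtain ⟨i, k⟩ := p
    rw [map_smul, single_eq_ten, QuadraticMap.polarBilin_apply_apply, hc, smul_zero]
  set t := QuadraticMap.polar ⇑Q u (ten a b) with ht
  have h1 : QuadraticMap.polarBilin Q u (ten (t⁻¹ • a) b) = 1 := by
    rw [ten_smul_left, map_smul, QuadraticMap.polarBilin_apply_apply, ← ht, smul_eq_mul, inv_mul_cancel₀ hab]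
  refine goodAt_span H.nondeg hu ?_ (mem_span_pure (QuadraticMap.polarBilin Q u) h1 hx)
  rintro y ⟨a, b, rfl, hy⟩
  exact hp a b hy

/-- All the levels give the whole of `Ω`. -/
theorem omega_le (hns : ¬ Small JA JB M) : Cfsg.Geo.omegaGL ⇑Q ≤ M := by
  have hD := H.d_all hns
  have hgood : ∀ u x, Q u = 0 → u ≠ 0 → QuadraticMap.polar ⇑Q u x = 0 →
      GoodAt Q (M.comap (Subgroup.subtype _)) u x := by
    intro u x hu hu0 hx
    refine H.good_of_pure hu hu0 (fun a b hab => ?_) hx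
    by_cases hp : ten a b = (0 : α × β → F)
    · rw [hp]; exact goodAt_zero hu
    refine goodAt_symm (H.pure a b) hu (H.good_of_pure (H.pure a b) hp (fun a' b' h' => ?_) (by rw [b_comm]; exact hab))
    exact H.good_pure hD (fun e => hp (by ext p; simp [ten, e])) (fun e => hp (by ext p; simp [ten, e])) h'
  have hEl : El Q ≤ M.comap (Subgroup.subtype _) := by
    refine (Subgroup.closure_le _).2 fun g hg => ?_
    obtain ⟨u, v, h⟩ := hg
    by_cases hu : u = 0
    · have : g = 1 := ext_ap fun x => by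
        rw [h.2.2, ap_one, hu, b_zero_right, mul_zero, zero_smul, zero_smul, smul_zero, add_zero, sub_zero,
          sub_zero]
      rw [this]
      exact one_mem _
    · exact (hgood u v h.1 hu h.2.1).2 1 g (by rwa [one_smul])
  rintro x ⟨g, hg, rfl⟩
  exact hEl (by rwa [← omega_eq_El H.nondeg H.five_le_dim])

/-- An element of `Ω` which is not a Kronecker product. -/
theorem exists_not_tens : ∃ g ∈ Cfsg.Geo.omegaGL ⇑Q, ¬ Tens g.1 := by
  haveI := H.nonempty_left
  obtain ⟨w, hw, -⟩ := exists_orth (fun i : Fin 0 => (i.elim0 : β → F)) (by have := H.five; simp; omega)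
  obtain ⟨ψ, hψ, ho⟩ := H.pair_exists w
  obtain ⟨v, hv, -⟩ := exists_orth (fun i : Fin 0 => (i.elim0 : α → F)) (by have := H.two_le; simp; omega)
  obtain ⟨g, hg⟩ := exists_siegel H.nondeg (H.pure v w) (v := (-1 : F) • ten v ψ)
    (by rw [b_smul_right, H.polar_ten, H.sA.alt, zero_mul, mul_zero])
  refine ⟨_, H.omega_of_El (siegel_mem_El hg), ?_⟩
  set E := Matrix.vecMulVec v (JA *ᵥ v) with hE
  rw [H.siegel_val v v w ψ hg, neg_neg, one_smul, ← hE]
  rintro ⟨S, T, hST⟩
  obtain ⟨y, y1, y2⟩ := H.sB.exists_perp_ne hw hψ 0 1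
  have hyw : ∀ d : F, y ≠ d • w := fun d e => by
    rw [e, dotProduct_smul, H.sB.swap, ho, neg_zero, smul_zero] at y2
    exact zero_ne_one y2
  have hk : kc α y + kc α w * E = kc α (T *ᵥ y) * S := by
    rw [← kron_mul_kc, ← hST, Matrix.add_mul, Matrix.one_mul, H.np_mul_kc, y1, y2]
    simp
  obtain ⟨θ, t1, t2⟩ := exists_dual_pair hw hyw 0 1
  obtain ⟨η, s1, s2⟩ := exists_dual_pair hw hyw 1 0
  have h1 := congrArg (kr α θ * ·) hk
  have h2 := congrArg (kr α η * ·) hk
  simp only [Matrix.mul_add, ← Matrix.mul_assoc, kr_mul_kc, t1, t2, s1, s2, one_smul, zero_smul, Matrix.zero_mul,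
    Matrix.one_mul, add_zero, zero_add, Matrix.smul_mul] at h1 h2
  have hne : θ ⬝ᵥ (T *ᵥ y) ≠ 0 := fun e => by
    rw [e, zero_smul] at h1
    exact one_ne_zero h1
  have hS : S = (θ ⬝ᵥ (T *ᵥ y))⁻¹ • (1 : Matrix α α F) := by
    rw [h1, smul_smul, inv_mul_cancel₀ hne, one_smul]
  rw [hS, smul_smul] at h2
  set c := η ⬝ᵥ (T *ᵥ y) * (θ ⬝ᵥ (T *ᵥ y))⁻¹
  have hc : c = 0 := by
    have := congrArg (· *ᵥ v) h2
    rw [hE] at this
    simp only [Matrix.vecMulVec_mulVec, H.sA.self, MulOpposite.op_zero, zero_smul, Matrix.smul_mulVec,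
      Matrix.one_mulVec] at this
    exact (smul_eq_zero.1 this.symm).resolve_right hv
  rw [hc, zero_smul, hE] at h2
  obtain ⟨z, hz⟩ := H.sA.exists_form_ne hv
  have := congrArg (· *ᵥ z) h2
  simp only [Matrix.vecMulVec_mulVec, hz, MulOpposite.op_one, one_smul, Matrix.zero_mulVec] at this
  exact hv this

/-- An intermediate group is the stabiliser or `Ω`. -/
theorem dichotomy : (∀ g ∈ M, Tens g.1) ∨ M = Cfsg.Geo.omegaGL ⇑Q := by
  by_cases hS : Small JA JB M
  · exact Or.inl fun g hg => H.tens_all hS hg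
  · exact Or.inr (le_antisymm H.le (H.omega_le hS))

end Hyp

end CfsgLib.Classical.TensorSymp
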