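import Cfsg.Agent.Lib.Classical.OrthOmega

set_option autoImplicit false
set_option linter.unusedSectionVars false

/-!
An isometry acting trivially on the three layers of the flag of a totally singular subspace is a product
of Siegel transformations.
-/

namespace CfsgLib.Orth

open Matrix

variable {F : Type*} [Field F] {ι : Type} [Fintype ι] [DecidableEq ι]
variable {Q : QuadraticForm F (ι → F)}

local notation "B" => QuadraticMap.polar (DFunLike.coe Q)

theorem mem_El_of_flag (hB : Nondeg Q) {κ : Type} [Fintype κ] [DecidableEq κ] (e f : κ → ι → F)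
    (hQe : ∀ i, Q (e i) = 0) (hee : ∀ i j, B (e i) (e j) = 0)
    (hef : ∀ i j, B (e i) (f j) = if i = j then 1 else 0) (h : Grp Q) (hfix : ∀ i, ap h (e i) = e i)
    (hperp : ∀ y, (∀ i, B y (e i) = 0) → ap h y - y ∈ Submodule.span F (Set.range e)) : h ∈ El Q := by
  classical
  suffices main : ∀ (s : Finset κ) (h : Grp Q), (∀ i, ap h (e i) = e i) →
      (∀ y, (∀ i, B y (e i) = 0) → ap h y - y ∈ Submodule.span F (Set.range e)) →
      (∀ i, i ∉ s → ap h (f i) = f i) → h ∈ El Q from
    main Finset.univ h hfix hperp fun i hi => absurd (Finset.mem_univ i) hi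
  intro s
  induction s using Finset.induction_on with
  | empty =>
    intro h hfix hperp hf
    have : h = 1 := by
      refine ext_ap fun x => ?_
      rw [ap_one]
      set y := x - ∑ j, B x (e j) • f j with hy
      have hlin : ∀ (g : Grp Q) (z : κ → F), ap g (∑ j, z j • f j) = ∑ j, z j • ap g (f j) := fun g z => by
        simp only [ap, Matrix.mulVec_sum, Matrix.mulVec_smul]
      have hye : ∀ i, B y (e i) = 0 := fun i => by
        show QuadraticMap.polarBilin Q y (e i) = 0
        rw [hy, map_sub, map_sum, LinearMap.sub_apply, LinearMap.sum_apply]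
        simp only [map_smul, LinearMap.smul_apply, QuadraticMap.polarBilin_apply_apply, b_comm (f _) (e i), hef,
          smul_eq_mul, mul_ite, mul_one, mul_zero, Finset.sum_ite_eq, Finset.mem_univ, if_true, sub_self]
      obtain ⟨z, hz⟩ := (Submodule.mem_span_range_iff_exists_fun F).1 (hperp y hye)
      have hfy : ∀ j, B (ap h y - y) (f j) = 0 := fun j => by
        have h0 := ap_b h y (f j)
        rw [hf j (Finset.notMem_empty j)] at h0
        rw [b_sub_left, h0, sub_self]
      have hzero : ap h y - y = 0 := by
        rw [← hz]
        refine Finset.sum_eq_zero fun j _ => ?_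
        have h0 := hfy j
        rw [← hz] at h0
        change QuadraticMap.polarBilin Q (∑ i, z i • e i) (f j) = 0 at h0
        rw [map_sum, LinearMap.sum_apply] at h0
        simp only [map_smul, LinearMap.smul_apply, QuadraticMap.polarBilin_apply_apply, hef, smul_eq_mul, mul_ite,
          mul_one, mul_zero, Finset.sum_ite_eq', Finset.mem_univ, if_true] at h0
        rw [h0, zero_smul]
      have hx : x = y + ∑ j, B x (e j) • f j := by rw [hy, sub_add_cancel]
      rw [hx, ap_add, hlin]
      simp only [hf _ (Finset.notMem_empty _)]
      rw [sub_eq_zero.1 hzero]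
    rw [this]
    exact one_mem _
  | insert a t ha ih =>
    intro h hfix hperp hf
    set x := ap h (f a) - f a with hx
    have hxe : ∀ i, B (e i) x = 0 := fun i => by
      have h0 := ap_b h (e i) (f a)
      rw [hfix] at h0
      rw [hx, b_sub_right, h0, sub_self]
    obtain ⟨g, hg⟩ := exists_siegel hB (hQe a) (hxe a)
    have hge : ∀ i, ap g (e i) = e i := fun i => siegel_fix hg (hee i a) (hxe i)
    have hga : ap g (f a) = ap h (f a) := by
      have hq : Q x + B (f a) x = 0 := by
        have h0 := ap_q h (f a)
        have h1 : ap h (f a) = f a + x := by rw [hx, add_sub_cancel]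
        rw [h1, q_add] at h0
        linear_combination h0
      rw [hg.2.2, b_comm (f a) (e a), hef, if_pos rfl, one_smul, mul_one, hx, add_sub_cancel, sub_sub,
        ← add_smul, ← hx, add_comm (B (f a) x), hq, zero_smul, sub_zero]
    have hgperp : ∀ y, (∀ i, B y (e i) = 0) → ap g⁻¹ y - y ∈ Submodule.span F (Set.range e) := by
      intro y hy
      obtain ⟨g', hg'⟩ := exists_siegel hB (hQe a) (v := -x)
        (by rw [← neg_one_smul F x, b_smul_right, hxe, mul_zero])
      have e1 : g⁻¹ = g' := by
        have := siegel_mul hg hg'
        rw [add_neg_cancel] at this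
        exact inv_eq_of_mul_eq_one_right (siegel_unique this (siegel_one (hQe a)))
      rw [e1, hg'.2.2, hy a, zero_smul, add_zero, mul_zero, zero_smul, sub_zero, sub_sub_cancel_left]
      exact neg_mem (Submodule.smul_mem _ _ (Submodule.subset_span ⟨a, rfl⟩))
    have hmem : g⁻¹ * h ∈ El Q := by
      refine ih _ (fun i => ?_) (fun y hy => ?_) fun i hi => ?_
      · rw [ap_mul, hfix]
        conv_lhs => rw [← hge i]
        rw [ap_inv_ap]
      · have h1 : ∀ i, B (ap h y) (e i) = 0 := fun i => by
          rw [← hfix i, ap_b]; exact hy i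
        rw [ap_mul, show ap g⁻¹ (ap h y) - y = (ap g⁻¹ (ap h y) - ap h y) + (ap h y - y) by abel]
        exact add_mem (hgperp _ h1) (hperp y hy)
      · rw [ap_mul]
        by_cases hia : i = a
        · rw [hia, ← hga, ap_inv_ap]
        · rw [hf i (by simp [hia, hi])]
          have : ap g (f i) = f i := by
            refine siegel_fix hg ?_ ?_
            · rw [b_comm, hef, if_neg (fun e => hia e.symm)]
            · have h0 := ap_b h (f i) (f a)
              rw [hf i (by simp [hia, hi])] at h0
              rw [hx, b_sub_right, h0, sub_self]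
          conv_lhs => rw [← this]
          rw [ap_inv_ap]
    have := mul_mem (siegel_mem_El hg) hmem
    rwa [mul_inv_cancel_left] at this

end CfsgLib.Orth
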