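import Cfsg.Agent.Lib.Classical.TensorSymp.Level

set_option autoImplicit false
set_option linter.unusedSectionVars false

/-!
The levels form an algebra invariant under the symplectic group, so they are scalars or everything.
-/

namespace CfsgLib.Classical.TensorSymp

open Matrix CfsgLib.Classical.TensorMax
open scoped MatrixGroups Kronecker

variable {F : Type*} [Field F] [Finite F] {α β : Type} [Fintype α] [DecidableEq α] [Fintype β] [DecidableEq β]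
variable {JA : Matrix α α F} {JB : Matrix β β F} {Q : QuadraticForm F (α × β → F)}
  {M : Subgroup (GL (α × β) F)}

/-- All the levels are scalars. -/
def Small (JA : Matrix α α F) (JB : Matrix β β F) (M : Subgroup (GL (α × β) F)) : Prop :=
  ∀ E, D JA JB M E → ∃ c : F, E = c • 1

namespace Hyp

variable (H : Hyp JA JB Q M)
include H

theorem np_inv {w ψ : β → F} (ho : (JB *ᵥ w) ⬝ᵥ ψ = 0) (E : Matrix α α F) :
    (1 + Np JA JB w ψ E) * (1 - Np JA JB w ψ E) = 1 := by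
  rw [Matrix.mul_sub, Matrix.mul_one, Matrix.add_mul, Matrix.one_mul, H.np_sq ho]
  abel

theorem pair_exists (w : β → F) : ∃ ψ : β → F, (∀ c : F, ψ ≠ c • w) ∧ (JB *ᵥ w) ⬝ᵥ ψ = 0 := by
  obtain ⟨r, hr, hr'⟩ := H.exists_orth_indep (fun _ : Fin 1 => JB *ᵥ w) (w := w) (by have := H.five; simp; omega)
  exact ⟨r, hr, hr' 0⟩

theorem d_smul {E : Matrix α α F} (h : D JA JB M E) (c : F) : D JA JB M (c • E) := by
  haveI := H.nonempty_right
  obtain ⟨w, hw, -⟩ := exists_orth (fun i : Fin 0 => (i.elim0 : β → F)) (by have := H.five; simp; omega)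
  obtain ⟨ψ, hψ, ho⟩ := H.pair_exists w
  obtain ⟨g, hg, hg'⟩ := h w ψ hw hψ ho
  obtain ⟨y, y1, y2⟩ := H.sB.exists_perp_ne hw hψ 0 1
  have hyw : ∀ d : F, y ≠ d • w := fun d e => by
    rw [e, dotProduct_smul, H.sB.swap, ho, neg_zero, smul_zero] at y2
    exact zero_ne_one y2
  refine H.level hg hw hyw y1 ?_ ?_ c
  · rw [hg', Matrix.add_mul, Matrix.one_mul, H.np_mul_kc, H.sB.self, H.sB.swap ψ, ho]
    simp
  · rw [hg', Matrix.add_mul, Matrix.one_mul, H.np_mul_kc, y1, y2]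
    simp

theorem d_sub {E E' : Matrix α α F} (h : D JA JB M E) (h' : D JA JB M E') : D JA JB M (E - E') := by
  rw [sub_eq_add_neg, ← neg_one_smul F E']
  exact H.d_add h (H.d_smul h' _)

theorem d_one (c : F) : D JA JB M (c • 1) := by
  intro w ψ hw hψ ho
  have := H.inM_pair (α := α) ho c
  rwa [← H.np_smul] at this

theorem d_conj {E : Matrix α α F} (h : D JA JB M E) (u : α → F) (c : F) :
    D JA JB M (tv JA u c * E * tv JA u (-c)) := by
  intro w ψ hw hψ ho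
  have e := H.inM_conj (H.sA.sp_tv u c) H.sB.sp_one (H.inM_tvA u c) (h w ψ hw hψ ho)
  rwa [Matrix.one_mulVec, Matrix.one_mulVec, Matrix.inv_eq_right_inv (H.sA.tv_mul_neg u c)] at e

theorem d_diff {E : Matrix α α F} (h : D JA JB M E) (u : α → F) (c : F) :
    D JA JB M (c • (Matrix.vecMulVec u (JA *ᵥ u) * E - E * Matrix.vecMulVec u (JA *ᵥ u)) -
      (c * c) • (Matrix.vecMulVec u (JA *ᵥ u) * E * Matrix.vecMulVec u (JA *ᵥ u))) := by
  have := H.d_sub (H.d_conj h u c) h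
  convert this using 1
  rw [tv, tv, Matrix.smul_vecMulVec, Matrix.smul_vecMulVec, neg_smul]
  simp only [Matrix.mul_add, Matrix.add_mul, Matrix.mul_one, Matrix.one_mul,
    Matrix.smul_mul, Matrix.mul_smul, Matrix.mul_neg, Matrix.neg_mul, smul_add, smul_smul, smul_sub, smul_neg]
  abel

theorem d_mul {E E' : Matrix α α F} (h : D JA JB M E) (h' : D JA JB M E') : D JA JB M (E * E') := by
  haveI := H.nonempty_right
  obtain ⟨w, hw, -⟩ := exists_orth (fun i : Fin 0 => (i.elim0 : β → F)) (by have := H.five; simp; omega)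
  obtain ⟨ψ, hψ, ho⟩ := H.pair_exists w
  obtain ⟨ψ', p1, p2⟩ := H.sB.exists_perp_ne hw hψ 0 1
  have hψ'0 : ψ' ≠ 0 := fun e => by simp [e] at p2
  obtain ⟨r, hr, hr'⟩ := H.exists_orth_indep ![JB *ᵥ w, JB *ᵥ ψ, JB *ᵥ ψ'] (w := w) (by simpa using H.five)
  have r1 : (JB *ᵥ w) ⬝ᵥ r = 0 := hr' 0
  have r2 : (JB *ᵥ ψ) ⬝ᵥ r = 0 := hr' 1
  have r3 : (JB *ᵥ ψ') ⬝ᵥ r = 0 := hr' 2
  have hrψ : ∀ d : F, r ≠ d • ψ' := fun d e => by
    rw [e, dotProduct_smul, p2, smul_eq_mul, mul_one] at r2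
    rw [r2, zero_smul] at e
    exact hr 0 (by rw [e, zero_smul])
  have r1' : (JB *ᵥ r) ⬝ᵥ w = 0 := by rw [H.sB.swap, r1, neg_zero]
  have r3' : (JB *ᵥ r) ⬝ᵥ ψ' = 0 := by rw [H.sB.swap, r3, neg_zero]
  have q1 : (JB *ᵥ ψ') ⬝ᵥ w = 0 := by rw [H.sB.swap, p1, neg_zero]
  have hoψ : (JB *ᵥ ψ) ⬝ᵥ w = 0 := by rw [H.sB.swap, ho, neg_zero]
  -- a test vector for `r`
  obtain ⟨y, hy, hy'⟩ : ∃ y : β → F, (∀ i, ![JB *ᵥ w, JB *ᵥ ψ, JB *ᵥ ψ'] i ⬝ᵥ y = 0) ∧ (JB *ᵥ r) ⬝ᵥ y = 1 := by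
    by_contra hne
    push Not at hne
    have hker : ∀ y : β → F, (∀ i, ![JB *ᵥ w, JB *ᵥ ψ, JB *ᵥ ψ'] i ⬝ᵥ y = 0) → (JB *ᵥ r) ⬝ᵥ y = 0 := by
      intro y hy
      by_contra h0
      refine hne (((JB *ᵥ r) ⬝ᵥ y)⁻¹ • y) (fun i => by rw [dotProduct_smul, hy i, smul_zero]) ?_
      rw [dotProduct_smul, smul_eq_mul, inv_mul_cancel₀ h0]
    obtain ⟨x, x1, x2⟩ := H.sB.exists_perp_ne hw hr 0 1
    let d := ((JB *ᵥ ψ) ⬝ᵥ ψ')⁻¹
    have := hker (x - ((JB *ᵥ ψ) ⬝ᵥ x) • ψ' + ((JB *ᵥ ψ') ⬝ᵥ x) • ψ) (fun i => ?_)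
    · rw [dotProduct_add, dotProduct_sub, dotProduct_smul, dotProduct_smul, r3', H.sB.swap r ψ, r2, x2] at this
      simp at this
    · have p2' : (JB *ᵥ ψ') ⬝ᵥ ψ = -1 := by rw [H.sB.swap, p2]
      fin_cases i <;>
        simp [dotProduct_add, dotProduct_sub, dotProduct_smul, x1, p1, ho, p2, H.sB.self, p2']
  have y1 : (JB *ᵥ w) ⬝ᵥ y = 0 := hy 0
  have y2 : (JB *ᵥ ψ) ⬝ᵥ y = 0 := hy 1
  have y3 : (JB *ᵥ ψ') ⬝ᵥ y = 0 := hy 2
  have hyw : ∀ d : F, y ≠ d • w := fun d e => by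
    rw [e, dotProduct_smul, r1', smul_zero] at hy'
    exact zero_ne_one hy'
  obtain ⟨x, hx, hx'⟩ := h w ψ hw hψ ho
  obtain ⟨x', hxx, hxx'⟩ := h' ψ' r hψ'0 hrψ r3
  have i1 : (x⁻¹).1 = 1 - Np JA JB w ψ E := Units.inv_eq_of_mul_eq_one_right (by rw [hx', H.np_inv ho])
  have i2 : (x'⁻¹).1 = 1 - Np JA JB ψ' r E' := Units.inv_eq_of_mul_eq_one_right (by rw [hxx', H.np_inv r3])
  have hmul : (1 : F) • (E * E') = E * E' := one_smul _ _
  rw [← hmul]
  have X : ∀ v : β → F, x.1 * kc α v = kc α v + (((JB *ᵥ ψ) ⬝ᵥ v) • (kc α w * E) +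
      ((JB *ᵥ w) ⬝ᵥ v) • (kc α ψ * adj JA E)) := fun v => by
    rw [hx', Matrix.add_mul, Matrix.one_mul, H.np_mul_kc]
  have Xi : ∀ v : β → F, (x⁻¹).1 * kc α v = kc α v - (((JB *ᵥ ψ) ⬝ᵥ v) • (kc α w * E) +
      ((JB *ᵥ w) ⬝ᵥ v) • (kc α ψ * adj JA E)) := fun v => by
    rw [i1, Matrix.sub_mul, Matrix.one_mul, H.np_mul_kc]
  have Y : ∀ v : β → F, x'.1 * kc α v = kc α v + (((JB *ᵥ r) ⬝ᵥ v) • (kc α ψ' * E') +
      ((JB *ᵥ ψ') ⬝ᵥ v) • (kc α r * adj JA E')) := fun v => by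
    rw [hxx', Matrix.add_mul, Matrix.one_mul, H.np_mul_kc]
  have Yi : ∀ v : β → F, (x'⁻¹).1 * kc α v = kc α v - (((JB *ᵥ r) ⬝ᵥ v) • (kc α ψ' * E') +
      ((JB *ᵥ ψ') ⬝ᵥ v) • (kc α r * adj JA E')) := fun v => by
    rw [i2, Matrix.sub_mul, Matrix.one_mul, H.np_mul_kc]
  refine H.level (M.mul_mem (M.mul_mem (M.mul_mem hx hxx) (M.inv_mem hx)) (M.inv_mem hxx)) hw hyw y1 ?_ ?_ 1
  · simp only [Units.val_mul, Matrix.mul_assoc, X, Xi, Y, Yi, r1', q1, hoψ, H.sB.self, zero_smul, add_zero, sub_zero]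
  · simp only [Units.val_mul, Matrix.mul_assoc, Yi, hy', y3, one_smul, zero_smul, add_zero, Matrix.mul_sub]
    simp only [← Matrix.mul_assoc (x⁻¹).1, Xi, y1, y2, p1, p2, one_smul, zero_smul, add_zero, sub_zero,
      Matrix.sub_mul, Matrix.mul_sub]
    simp only [Matrix.mul_assoc (kc α w), ← Matrix.mul_assoc x'.1, Y, hy', y3, r3', H.sB.self, r1', q1, one_smul,
      zero_smul, add_zero]
    simp only [Matrix.mul_add, Matrix.mul_sub, ← Matrix.mul_assoc x.1, X, y1, y2, p1, p2, hoψ, H.sB.self, one_smul,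
      zero_smul, add_zero, Matrix.add_mul, Matrix.mul_assoc (kc α w)]
    abel

theorem zm_conj {T : Matrix β β F} (hT : Sp JB T) (w : β → F) (C : Matrix α α F) :
    ((1 : Matrix α α F) ⊗ₖ T) * Zm JB w C * ((1 : Matrix α α F) ⊗ₖ T⁻¹) = Zm JB (T *ᵥ w) C := by
  have hphi : (JB *ᵥ w) ᵥ* T⁻¹ = JB *ᵥ (T *ᵥ w) := by
    rw [← H.sB.vecMul_image hT w, Matrix.vecMul_vecMul, (H.sB.sp_inv hT).1, Matrix.vecMul_one]
  simp only [Zm, ← Matrix.mul_assoc, kron_mul_kc, Matrix.mul_one]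
  simp only [Matrix.mul_assoc, kr_mul_kron, hphi, Matrix.one_mul]

theorem zm_sq (w : β → F) (C C' : Matrix α α F) : Zm JB w C * Zm JB w C' = 0 := by
  simp only [Zm, Matrix.mul_assoc]
  rw [← Matrix.mul_assoc (kr α (JB *ᵥ w)) (kc α w), kr_mul_kc, H.sB.self]
  simp

/-- The central part of a level is a level. -/
theorem d_of_zm {w : β → F} (hw : w ≠ 0) {C : Matrix α α F} (h : InM M (1 + Zm JB w C)) : D JA JB M C := by
  obtain ⟨ψ', hp⟩ := H.sB.exists_form_ne hw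
  have q1 : (JB *ᵥ ψ') ⬝ᵥ w = -1 := by rw [H.sB.swap, hp]
  obtain ⟨r, hr, hr'⟩ := H.exists_orth_indep ![JB *ᵥ w, JB *ᵥ ψ'] (w := w) (by have := H.five; simp; omega)
  have r1 : (JB *ᵥ w) ⬝ᵥ r = 0 := hr' 0
  have r3 : (JB *ᵥ ψ') ⬝ᵥ r = 0 := hr' 1
  have r1' : (JB *ᵥ r) ⬝ᵥ w = 0 := by rw [H.sB.swap, r1, neg_zero]
  have r3' : (JB *ᵥ r) ⬝ᵥ ψ' = 0 := by rw [H.sB.swap, r3, neg_zero]
  have hr0 : r ≠ 0 := fun e => hr 0 (by rw [e, zero_smul])
  have hwr : ∀ d : F, r ≠ d • w := hr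
  have hrw : ∀ d : F, w ≠ d • r := fun d e => by
    by_cases hd : d = 0
    · exact hw (by rw [e, hd, zero_smul])
    · exact hr d⁻¹ (by rw [e, smul_smul, inv_mul_cancel₀ hd, one_smul])
  obtain ⟨T, hT, hTs, eT, -⟩ := H.move hw hwr r1 hr0 hrw r1'
  have e1 : ((1 : Matrix α α F) ⊗ₖ T) * ((1 : Matrix α α F) ⊗ₖ T⁻¹) = 1 := by
    rw [← Matrix.mul_kronecker_mul, (H.sB.sp_inv hTs).1, Matrix.one_mul, Matrix.one_kronecker_one]
  have hZr := (hT.mul h).mul (H.inM_inv hT e1)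
  rw [Matrix.mul_add, Matrix.mul_one, Matrix.add_mul, e1, H.zm_conj hTs, eT] at hZr
  obtain ⟨x, hx, hx'⟩ := h
  obtain ⟨z, hz, hz'⟩ := hZr
  obtain ⟨n, hn, hn'⟩ := H.inM_pair (α := α) r3 1
  obtain ⟨n2, hn2, hn2'⟩ := H.inM_pair (α := α) r3 (-1)
  have i1 : (x⁻¹).1 = 1 - Zm JB w C := by
    refine Units.inv_eq_of_mul_eq_one_right ?_
    rw [hx', Matrix.mul_sub, Matrix.mul_one, Matrix.add_mul, Matrix.one_mul, H.zm_sq]
    abel
  obtain ⟨y, hy1, hy2⟩ := H.sB.exists_perp_ne hw hwr 0 1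
  -- correct `y` at `ψ'`
  set y' := y + ((JB *ᵥ ψ') ⬝ᵥ y) • w with hy'
  have a1 : (JB *ᵥ w) ⬝ᵥ y' = 0 := by rw [hy', dotProduct_add, dotProduct_smul, hy1, H.sB.self, smul_zero, add_zero]
  have a2 : (JB *ᵥ ψ') ⬝ᵥ y' = 0 := by
    rw [hy', dotProduct_add, dotProduct_smul, q1, smul_eq_mul, mul_neg, mul_one, add_neg_cancel]
  have a3 : (JB *ᵥ r) ⬝ᵥ y' = 1 := by rw [hy', dotProduct_add, dotProduct_smul, hy2, r1', smul_zero, add_zero]
  have hyw : ∀ d : F, y' ≠ d • w := fun d e => by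
    rw [e, dotProduct_smul, r1', smul_zero] at a3
    exact zero_ne_one a3
  have hz1 : ∀ v : β → F, Zm JB r C * kc α v = ((JB *ᵥ r) ⬝ᵥ v) • (kc α r * C) := fun v => by
    simp only [Zm, Matrix.mul_assoc, kr_mul_kc, Matrix.mul_smul, Matrix.mul_one]
  have hx1 : ∀ v : β → F, Zm JB w C * kc α v = ((JB *ᵥ w) ⬝ᵥ v) • (kc α w * C) := fun v => by
    simp only [Zm, Matrix.mul_assoc, kr_mul_kc, Matrix.mul_smul, Matrix.mul_one]
  have hmul : (1 : F) • C = C := one_smul _ _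
  rw [← hmul]
  have X : ∀ v : β → F, x.1 * kc α v = kc α v + ((JB *ᵥ w) ⬝ᵥ v) • (kc α w * C) := fun v => by
    rw [hx', Matrix.add_mul, Matrix.one_mul, hx1]
  have Xi : ∀ v : β → F, (x⁻¹).1 * kc α v = kc α v - ((JB *ᵥ w) ⬝ᵥ v) • (kc α w * C) := fun v => by
    rw [i1, Matrix.sub_mul, Matrix.one_mul, hx1]
  have Z : ∀ v : β → F, z.1 * kc α v = kc α v + ((JB *ᵥ r) ⬝ᵥ v) • (kc α r * C) := fun v => by
    rw [hz', Matrix.add_mul, Matrix.one_mul, hz1]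
  have Nn : ∀ v : β → F, n.1 * kc α v = kc α v + (((JB *ᵥ r) ⬝ᵥ v) • kc α ψ' + ((JB *ᵥ ψ') ⬝ᵥ v) • kc α r) :=
    fun v => by
      rw [hn', one_smul, Matrix.add_mul, Matrix.one_mul, H.np_mul_kc, H.sA.adj_one, Matrix.mul_one, Matrix.mul_one]
  have Ni : ∀ v : β → F, n2.1 * kc α v = kc α v - (((JB *ᵥ r) ⬝ᵥ v) • kc α ψ' + ((JB *ᵥ ψ') ⬝ᵥ v) • kc α r) :=
    fun v => by
      rw [hn2', neg_smul, one_smul, Matrix.add_mul, Matrix.one_mul, Matrix.neg_mul, H.np_mul_kc, H.sA.adj_one,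
        Matrix.mul_one, Matrix.mul_one, sub_eq_add_neg]
  refine H.level (M.mul_mem hz (M.mul_mem (M.mul_mem (M.mul_mem hx hn) (M.inv_mem hx)) hn2)) hw hyw a1 ?_ ?_ 1
  · simp only [Units.val_mul, Matrix.mul_assoc, Ni, r1', q1, zero_smul, zero_add, neg_smul, one_smul, sub_neg_eq_add,
      Matrix.mul_add]
    simp only [Xi, H.sB.self, r1, zero_smul, sub_zero]
    simp only [Nn, H.sB.self, r1', r3, q1, r1, zero_smul, zero_add, add_zero, neg_smul, one_smul, Matrix.mul_add,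
      Matrix.mul_neg]
    simp only [X, H.sB.self, r1, zero_smul, add_zero, Matrix.mul_add, Matrix.mul_neg]
    simp only [Z, r1', H.sB.self, zero_smul, add_zero]
    abel
  · simp only [Units.val_mul, Matrix.mul_assoc, Ni, a3, a2, zero_smul, one_smul, add_zero, Matrix.mul_sub]
    simp only [Xi, a1, hp, zero_smul, one_smul, sub_zero, Matrix.mul_sub]
    simp only [← Matrix.mul_assoc n.1, Nn, a2, a3, r3', H.sB.self, r1', q1, zero_smul, zero_add, add_zero, neg_smul,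
      one_smul, Matrix.add_mul, Matrix.neg_mul]
    simp only [Matrix.mul_add, Matrix.mul_sub, Matrix.mul_neg, ← Matrix.mul_assoc x.1, X, a1, hp, r1, H.sB.self,
      zero_smul, one_smul, add_zero]
    simp only [Matrix.mul_add, Matrix.mul_sub, Matrix.mul_neg, ← Matrix.mul_assoc z.1, Z, a3, r1', r3', H.sB.self,
      zero_smul, one_smul, add_zero]
    abel

/-- A non-scalar level gives a rank one level. -/
theorem d_root {E : Matrix α α F} (hE : D JA JB M E) (hns : ∀ c : F, E ≠ c • 1) :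
    ∃ u : α → F, u ≠ 0 ∧ D JA JB M (Matrix.vecMulVec u (JA *ᵥ u)) := by
  haveI := H.nonempty_left
  obtain ⟨u, hu, hEu⟩ := exists_moved hns
  refine ⟨u, hu, ?_⟩
  set x := E *ᵥ u with hx
  set N := Matrix.vecMulVec u (JA *ᵥ u) with hN
  have hNEN : N * E * N = ((JA *ᵥ u) ⬝ᵥ x) • N := by
    rw [hN, Matrix.mul_assoc, Matrix.mul_vecMulVec, Matrix.vecMulVec_mul_vecMulVec, ← hx]
    simp [Matrix.vecMulVec_smul]
  have main : ∀ v : α → F, (JA *ᵥ u) ⬝ᵥ v = 0 → (JA *ᵥ v) ⬝ᵥ x = 1 → (∀ c : F, v ≠ c • u) → D JA JB M N := by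
    intro v v1 v2 v3
    have v1' : (JA *ᵥ v) ⬝ᵥ u = 0 := by rw [H.sA.swap, v1, neg_zero]
    have e1 := H.d_diff hE u 1
    rw [one_smul, mul_one, one_smul, hNEN] at e1
    have e2 := H.d_diff e1 v 1
    rw [one_smul, mul_one, one_smul] at e2
    set l := ((JA *ᵥ u) ᵥ* E) ⬝ᵥ v
    set M' := Matrix.vecMulVec v (JA *ᵥ v) with hM'
    have n1 : N * E = Matrix.vecMulVec u ((JA *ᵥ u) ᵥ* E) := by rw [hN, Matrix.vecMulVec_mul]
    have n2 : E * N = Matrix.vecMulVec x (JA *ᵥ u) := by rw [hN, Matrix.mul_vecMulVec]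
    have G : D JA JB M (Matrix.vecMulVec v (JA *ᵥ u) + l • Matrix.vecMulVec u (JA *ᵥ v)) := by
      have := H.d_smul e2 (-1)
      convert this using 1
      rw [n1, n2, hN, hM']
      simp only [Matrix.mul_sub, Matrix.sub_mul, Matrix.mul_smul, Matrix.smul_mul, Matrix.vecMulVec_mul_vecMulVec,
        v1, v1', v2, zero_smul, one_smul, Matrix.vecMulVec_zero, Matrix.vecMulVec_smul, smul_zero, sub_zero,
        zero_sub, neg_smul, l, Matrix.zero_mul, Matrix.neg_mul, Matrix.mul_neg, neg_zero, smul_neg]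
      abel
    have G2 : ∀ z : α → F, (JA *ᵥ z) ⬝ᵥ u = 0 → (JA *ᵥ z) ⬝ᵥ v = 1 →
        D JA JB M (Matrix.vecMulVec z (JA *ᵥ u) + l • Matrix.vecMulVec u (JA *ᵥ z)) := by
      intro z z1 z2
      have z1' : (JA *ᵥ u) ⬝ᵥ z = 0 := by rw [H.sA.swap, z1, neg_zero]
      have z2' : (JA *ᵥ v) ⬝ᵥ z = -1 := by rw [H.sA.swap, z2]
      have hc : ∀ p q : α → F, tv JA z 1 * Matrix.vecMulVec p (JA *ᵥ q) * tv JA z (-1) =
          Matrix.vecMulVec (tv JA z 1 *ᵥ p) (JA *ᵥ (tv JA z 1 *ᵥ q)) := fun p q => by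
        rw [Matrix.mul_vecMulVec, Matrix.vecMulVec_mul]
        congr 1
        rw [← H.sA.vecMul_image (H.sA.sp_tv z 1) q, Matrix.vecMul_vecMul, H.sA.tv_mul_neg, Matrix.vecMul_one]
      have sv : tv JA z 1 *ᵥ v = v + z := by rw [H.sA.tv_apply, z2, mul_one, one_smul]
      have su : tv JA z 1 *ᵥ u = u := by rw [H.sA.tv_apply, z1, mul_zero, zero_smul, add_zero]
      have := H.d_sub (H.d_conj G z 1) G
      convert this using 1
      rw [Matrix.mul_add, Matrix.add_mul, Matrix.mul_smul, Matrix.smul_mul, hc, hc, sv, su, Matrix.mulVec_add,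
        Matrix.add_vecMulVec, Matrix.vecMulVec_add, smul_add]
      abel
    obtain ⟨z, z1, z2⟩ := H.sA.exists_perp_ne hu v3 0 (-1)
    rw [H.sA.swap, neg_eq_zero] at z1
    rw [H.sA.swap, neg_inj] at z2
    have g := G2 z z1 z2
    by_cases hl : l = 0
    · have g' := G2 (z + u) (by rw [Matrix.mulVec_add, add_dotProduct, z1, H.sA.self, add_zero])
        (by rw [Matrix.mulVec_add, add_dotProduct, z2, v1, add_zero])
      have := H.d_sub g' g
      simp only [hl, zero_smul, add_zero, Matrix.add_vecMulVec, add_sub_cancel_left] at this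
      exact this
    · have g3 := H.d_smul (H.d_mul G g) (-l)⁻¹
      convert g3 using 1
      have z2' : (JA *ᵥ v) ⬝ᵥ z = -1 := by rw [H.sA.swap, z2]
      have z1' : (JA *ᵥ u) ⬝ᵥ z = 0 := by rw [H.sA.swap, z1, neg_zero]
      simp only [Matrix.mul_add, Matrix.add_mul, Matrix.smul_mul, Matrix.mul_smul, Matrix.vecMulVec_mul_vecMulVec,
        Matrix.vecMulVec_smul, z1', v1', H.sA.self, z2', zero_smul, smul_zero, add_zero, zero_add, smul_smul, hN, Matrix.vecMulVec_zero]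
      rw [show (-l)⁻¹ * (l * -1) = 1 by field_simp, one_smul]
  by_cases hd : (JA *ᵥ u) ⬝ᵥ x = 0
  · obtain ⟨v, v1, v2⟩ := H.sA.exists_perp_ne hu hEu 0 (-1)
    refine main v v1 (by rw [H.sA.swap, v2, neg_neg]) fun c e => ?_
    rw [e, dotProduct_smul, H.sA.swap, hd, neg_zero, smul_zero] at v2
    exact one_ne_zero (neg_eq_zero.1 v2.symm)
  rcases H.excl with h3 | ⟨t, ht, ht1⟩
  · obtain ⟨v, v1, v2⟩ := H.sA.exists_perp_ne hu hEu 0 (-1)
    obtain ⟨k, hk, hk'⟩ := exists_orth ![JA *ᵥ u, JA *ᵥ x] (by simp; omega)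
    have k1 : (JA *ᵥ u) ⬝ᵥ k = 0 := hk' 0
    have k2 : (JA *ᵥ x) ⬝ᵥ k = 0 := hk' 1
    have hku : ∀ c : F, k ≠ c • u := fun c e => by
      rw [e, dotProduct_smul, H.sA.swap] at k2
      have := (mul_eq_zero.1 k2).resolve_right (neg_ne_zero.2 hd)
      exact hk (by rw [e, this, zero_smul])
    by_cases hv : ∀ c : F, v ≠ c • u
    · exact main v v1 (by rw [H.sA.swap, v2, neg_neg]) hv
    · push Not at hv
      obtain ⟨c, hc⟩ := hv
      refine main (v + k) (by rw [dotProduct_add, v1, k1, add_zero])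
        (by rw [H.sA.swap, dotProduct_add, v2, k2, add_zero, neg_neg]) fun d e => hku (d - c) ?_
      rw [sub_smul, ← e, hc, add_sub_cancel_left]
  · have := H.d_sub (H.d_diff hE u t) (H.d_smul (H.d_diff hE u 1) t)
    rw [hNEN] at this
    have e : t • (N * E - E * N) - (t * t) • ((JA *ᵥ u) ⬝ᵥ x) • N -
        t • ((1 : F) • (N * E - E * N) - ((1 : F) * 1) • ((JA *ᵥ u) ⬝ᵥ x) • N) =
        ((t - t * t) * ((JA *ᵥ u) ⬝ᵥ x)) • N := by
      simp only [one_smul, one_mul, mul_one, smul_sub, smul_smul, sub_mul, sub_smul]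
      abel
    rw [e] at this
    have h2 := H.d_smul this ((t - t * t) * ((JA *ᵥ u) ⬝ᵥ x))⁻¹
    rwa [smul_smul, inv_mul_cancel₀ (mul_ne_zero (sub_ne_zero.2 fun e' =>
      ht1 ((mul_right_eq_self₀.1 e'.symm).resolve_right ht)) hd), one_smul] at h2

/-- A non-scalar level gives every level. -/
theorem d_all (hns : ¬ Small JA JB M) (E : Matrix α α F) : D JA JB M E := by
  classical
  haveI := H.nonempty_left
  unfold Small at hns
  push Not at hns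
  obtain ⟨E₀, hE₀, hns⟩ := hns
  obtain ⟨u, hu, hN⟩ := H.d_root hE₀ hns
  have hmove : ∀ y z : α → F, D JA JB M (Matrix.vecMulVec y (JA *ᵥ y)) → (JA *ᵥ z) ⬝ᵥ y ≠ 0 →
      D JA JB M (Matrix.vecMulVec z (JA *ᵥ z)) := by
    intro y z hy hne
    have := H.d_conj hy (z - y) ((JA *ᵥ z) ⬝ᵥ y)⁻¹
    rw [Matrix.mul_vecMulVec, H.sA.tv_move hne, Matrix.vecMulVec_mul] at this
    have hT := H.sA.vecMul_image (H.sA.sp_tv (z - y) ((JA *ᵥ z) ⬝ᵥ y)⁻¹) y
    rw [H.sA.tv_move hne] at hT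
    rw [← hT, Matrix.vecMul_vecMul, H.sA.tv_mul_neg, Matrix.vecMul_one] at this
    exact this
  have hall : ∀ z : α → F, z ≠ 0 → D JA JB M (Matrix.vecMulVec z (JA *ᵥ z)) := by
    intro z hz
    by_cases hne : (JA *ᵥ z) ⬝ᵥ u = 0
    · obtain ⟨y, -, hy1, hy2⟩ := H.sA.exists_both (fun i : Fin 0 => (i.elim0 : α → F))
        (by obtain ⟨y, hy⟩ := H.sA.exists_form_ne hu; exact ⟨y, fun i => i.elim0, by rw [hy]; exact one_ne_zero⟩)
        (by obtain ⟨y, hy⟩ := H.sA.exists_form_ne hz; exact ⟨y, fun i => i.elim0, by rw [hy]; exact one_ne_zero⟩)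
      rw [H.sA.swap] at hy1
      exact hmove y z (hmove u y hN (neg_ne_zero.1 hy1)) hy2
    · exact hmove u z hN hne
  have hone : ∀ a b : α → F, (JA *ᵥ a) ⬝ᵥ b ≠ 0 → D JA JB M (Matrix.vecMulVec a (JA *ᵥ b)) := by
    intro a b h
    have ha : a ≠ 0 := fun e => h (by simp [e])
    have hb : b ≠ 0 := fun e => h (by simp [e])
    have := H.d_smul (H.d_mul (hall a ha) (hall b hb)) ((JA *ᵥ a) ⬝ᵥ b)⁻¹
    rwa [Matrix.vecMulVec_mul_vecMulVec, Matrix.vecMulVec_smul, smul_smul, inv_mul_cancel₀ h, one_smul] at this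
  have hrank : ∀ a l : α → F, D JA JB M (Matrix.vecMulVec a l) := by
    intro a l
    by_cases ha : a = 0
    · have := H.d_one 0
      rwa [zero_smul, ← Matrix.zero_vecMulVec l, ← ha] at this
    obtain ⟨b, rfl⟩ : ∃ b, JA *ᵥ b = l :=
      ⟨JA⁻¹ *ᵥ l, by rw [Matrix.mulVec_mulVec, Matrix.mul_nonsing_inv JA H.sA.isUnit_det, Matrix.one_mulVec]⟩
    by_cases hab : (JA *ᵥ a) ⬝ᵥ b = 0
    · obtain ⟨y, hy⟩ := H.sA.exists_form_ne ha
      have h1 := hone a (b + y) (by rw [dotProduct_add, hab, zero_add, hy]; exact one_ne_zero)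
      have h2 := hone a y (by rw [hy]; exact one_ne_zero)
      have := H.d_sub h1 h2
      rwa [Matrix.mulVec_add, Matrix.vecMulVec_add, add_sub_cancel_right] at this
    · exact hone a b hab
  have hsum : ∀ s : Finset α, D JA JB M (∑ j ∈ s, Matrix.vecMulVec (fun i => E i j) (Pi.single j 1)) := by
    intro s
    induction s using Finset.induction_on with
    | empty => simpa using H.d_one 0
    | insert a s ha ih => rw [Finset.sum_insert ha]; exact H.d_add (hrank _ _) ih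
  convert hsum Finset.univ
  ext i j
  simp [Matrix.sum_apply, Matrix.vecMulVec_apply, Pi.single_apply]

end Hyp

end CfsgLib.Classical.TensorSymp
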