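import Cfsg.Agent.Lib.Classical.TensorSymp.Stab

set_option autoImplicit false
set_option linter.unusedSectionVars false

/-!
When the levels are scalars, every element is a Kronecker product: otherwise a conjugate of a root element
has a contraction of smaller rank.
-/

namespace CfsgLib.Classical.TensorSymp

open Matrix CfsgLib.Classical.TensorMax
open scoped MatrixGroups Kronecker

variable {F : Type*} [Field F] [Finite F] {α β : Type} [Fintype α] [DecidableEq α] [Fintype β] [DecidableEq β]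
variable {JA : Matrix α α F} {JB : Matrix β β F} {Q : QuadraticForm F (α × β → F)}
  {M : Subgroup (GL (α × β) F)}

theorem rank_mul_lt {γ : Type} [Fintype γ] [DecidableEq γ] {P R : Matrix γ γ F} {i j : γ} (hP : P i j ≠ 0)
    (h : ∀ l, (P * R) i l = 0) : (P * R).rank < P.rank := by
  have hle : LinearMap.range (P * R).mulVecLin ≤ LinearMap.range P.mulVecLin := by
    rw [Matrix.mulVecLin_mul]
    exact LinearMap.range_comp_le_range _ _
  refine Submodule.finrank_lt_finrank_of_lt (lt_of_le_of_ne hle fun e => hP ?_)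
  have hmem := LinearMap.mem_range_self P.mulVecLin (Pi.single j 1)
  rw [← e] at hmem
  obtain ⟨x, hx⟩ := hmem
  have h1 := congrFun hx i
  simp only [Matrix.mulVecLin_apply] at h1
  rw [Matrix.mulVec_single_one] at h1
  rw [show P i j = ((P * R) *ᵥ x) i from h1.symm]
  simp [Matrix.mulVec, dotProduct, h]

namespace Hyp

variable (H : Hyp JA JB Q M)
include H

/-- The conjugate of a root element of the second factor. -/
theorem conj_root {g : GL (α × β) F} (hg : g ∈ M) (w : β → F) :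
    ∃ k ∈ M, k.1 = 1 + g.1 * (kc α w * kr α (JB *ᵥ w)) * (g⁻¹).1 := by
  obtain ⟨x, hx, hx'⟩ := H.inM_tvB w 1
  refine ⟨g * x * g⁻¹, M.mul_mem (M.mul_mem hg hx) (M.inv_mem hg), ?_⟩
  rw [Units.val_mul, Units.val_mul, hx', tv, one_smul, Matrix.kronecker_add, Matrix.one_kronecker_one,
    ← kc_mul_kr, Matrix.mul_add, Matrix.mul_one, Matrix.add_mul, g.mul_inv]

/-- If a conjugate of a root element of the second factor is a Kronecker product, so is the conjugator. -/
theorem tens_of_tens_conj (hS : Small JA JB M) {g : GL (α × β) F} (hg : g ∈ M) {w : β → F} (hw : w ≠ 0)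
    (hk : Tens (1 + g.1 * (kc α w * kr α (JB *ᵥ w)) * (g⁻¹).1)) : Tens g.1 := by
  haveI := H.nonempty_left
  set φ := JB *ᵥ w with hφd
  have hφ : φ ≠ 0 := H.sB.mulVec_ne hw
  obtain ⟨S, T, hST⟩ := hk
  have hmul : ∀ v : β → F, kc α (T *ᵥ v) * S = kc α v + g.1 * kc α w * blk (g⁻¹).1 φ v := fun v => by
    rw [← kron_mul_kc, ← hST, Matrix.add_mul, Matrix.one_mul, blk]
    simp only [Matrix.mul_assoc]
  obtain ⟨c, hc⟩ : ∃ c : F, S = c • 1 := by
    by_contra hS
    push Not at hS
    obtain ⟨u, hu, hSu⟩ := exists_moved hS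
    obtain ⟨v, hv, hv'⟩ := exists_orth
      (fun i : α => fun l : β => ∑ j, (kr α φ * (g⁻¹).1) i (j, l) * u j) (by have := H.lt; omega)
    have hQ : blk (g⁻¹).1 φ v *ᵥ u = 0 := by
      ext i
      refine Eq.trans ?_ (hv' i)
      simp only [blk, ← Matrix.mulVec_mulVec, dotProduct, Finset.sum_mul]
      rw [Matrix.mulVec_mulVec, Finset.sum_comm, ← Fintype.sum_prod_type']
      refine Finset.sum_congr rfl fun p _ => ?_
      have : (kc α v *ᵥ u) p = v p.2 * u p.1 := by
        rw [kc_mulVec, ten, mul_comm]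
      rw [this]
      ring
    have e := congrArg (· *ᵥ u) (hmul v)
    simp only [Matrix.add_mulVec, ← Matrix.mulVec_mulVec, hQ, Matrix.mulVec_zero, add_zero] at e
    refine hv (funext fun k => ?_)
    have e' := congrArg ((kr α (Pi.single k (1 : F) : β → F) : Matrix α (α × β) F) *ᵥ ·) e
    simp only [Matrix.mulVec_mulVec, ← Matrix.mul_assoc, kr_mul_kc] at e'
    simp only [Matrix.smul_mul, Matrix.one_mul, Matrix.smul_mulVec, Matrix.one_mulVec, single_dotProduct,
      one_mul] at e'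
    obtain ⟨l, l1, l2⟩ := exists_dual_pair hu hSu 1 0
    have := congrArg (l ⬝ᵥ ·) e'
    simpa [dotProduct_smul, l1, l2] using this.symm
  set Y := c • T - 1 with hY
  have hgX : g.1 * (kc α w * kr α φ) * (g⁻¹).1 = (1 : Matrix α α F) ⊗ₖ Y := by
    have e : (1 : Matrix α α F) ⊗ₖ Y + 1 = S ⊗ₖ T := by
      have : (1 : Matrix α α F) ⊗ₖ Y + (1 : Matrix α α F) ⊗ₖ (1 : Matrix β β F) = S ⊗ₖ T := by
        rw [← Matrix.kronecker_add, hY, sub_add_cancel, hc, Matrix.kronecker_smul, Matrix.smul_kronecker]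
      rwa [Matrix.one_kronecker_one] at this
    rw [← hST] at e
    rw [add_comm 1] at e
    exact (add_right_cancel e).symm
  obtain ⟨e₀, he₀⟩ : ∃ e₀ : β → F, Y *ᵥ e₀ ≠ 0 := by
    by_contra hall
    push Not at hall
    have hY0 : Y = 0 := Matrix.ext_of_mulVec_single fun j => by rw [hall, Matrix.zero_mulVec]
    have h0 : kc α w * kr α φ = (0 : Matrix (α × β) (α × β) F) := by
      calc kc α w * kr α φ = (g⁻¹).1 * (g.1 * (kc α w * kr α φ) * (g⁻¹).1) * g.1 := by
            rw [← Matrix.mul_assoc, ← Matrix.mul_assoc, g.inv_mul, Matrix.one_mul,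
              Matrix.mul_assoc (kc α w * kr α φ), g.inv_mul, Matrix.mul_one]
        _ = 0 := by rw [hgX, hY0, Matrix.kronecker_zero, Matrix.mul_zero, Matrix.zero_mul]
    have h1 : kc α w * kr α φ = kc α w * (0 : Matrix α (α × β) F) := by rw [h0, Matrix.mul_zero]
    have h2 := kc_cancel hw h1
    obtain ⟨θ, hθ⟩ := exists_dual_one hφ
    have h3 := congrArg (· * kc α θ) h2
    simp only [kr_mul_kc, dotProduct_comm φ θ, hθ, one_smul, Matrix.zero_mul] at h3
    exact one_ne_zero h3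
  set w₁ := Y *ᵥ e₀ with hw₁
  set R := blk (g⁻¹).1 φ e₀ with hRd
  have hR : g.1 * kc α w * R = kc α w₁ := by
    have := congrArg (· * kc α e₀) hgX
    simp only [kron_mul_kc, Matrix.mul_one] at this
    rw [← this, hRd, blk]
    simp only [Matrix.mul_assoc]
  obtain ⟨θ₁, hθ₁⟩ := exists_dual_one he₀
  set R' := blk g.1 θ₁ w with hR'd
  have hRR : R' * R = 1 := by
    rw [hR'd, blk, Matrix.mul_assoc (kr α θ₁), Matrix.mul_assoc (kr α θ₁), hR, kr_mul_kc, hθ₁, one_smul]
  have hgw : g.1 * kc α w = kc α w₁ * R' := by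
    rw [← hR, Matrix.mul_assoc _ R, mul_eq_one_comm.1 hRR, Matrix.mul_one]
  obtain ⟨ψ₁, p1, p2⟩ := H.pair_exists w₁
  obtain ⟨ψ, q1, q2⟩ := H.pair_exists w
  obtain ⟨T₁, ⟨n, hnM, hn⟩, -, hT₁, -⟩ := H.move he₀ p1 p2 hw q1 q2
  have hst : (n * g).1 * kc α w = kc α w * R' := by
    rw [Units.val_mul, Matrix.mul_assoc, hgw, ← Matrix.mul_assoc, hn, kron_mul_kc, hT₁, Matrix.mul_one]
  have h1 := H.tens_of_stab hS (M.mul_mem hnM hg) hw hst
  have h2 : Tens (n⁻¹).1 :=
    tens_inv ⟨_, _, hn⟩ n.mul_inv H.nonempty_left H.nonempty_right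
  have := tens_mul h2 h1
  rwa [Units.val_mul, ← Matrix.mul_assoc, n.inv_mul, Matrix.one_mul] at this

/-- An element with a vanishing contraction is a Kronecker product. -/
theorem tens_of_blk_zero (hS : Small JA JB M) {g : GL (α × β) F} (hg : g ∈ M) {u v : β → F} (hu : u ≠ 0)
    (hv : v ≠ 0) (h0 : blk g.1 (JB *ᵥ u) v = 0) : Tens g.1 := by
  obtain ⟨k, hk, hk'⟩ := H.conj_root (M.inv_mem hg) u
  rw [inv_inv] at hk'
  have hst : k.1 * kc α v = kc α v * (1 : Matrix α α F) := by
    have : kr α (JB *ᵥ u) * g.1 * kc α v = (0 : Matrix α α F) := h0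
    rw [hk', Matrix.add_mul, Matrix.one_mul, Matrix.mul_one]
    simp only [Matrix.mul_assoc] at this ⊢
    rw [this, Matrix.mul_zero, Matrix.mul_zero, add_zero]
  have h1 := H.tens_of_stab hS hk hv hst
  rw [hk'] at h1
  have h2 := H.tens_of_tens_conj hS (M.inv_mem hg) hu (by rw [inv_inv]; exact h1)
  exact tens_inv h2 g.inv_mul H.nonempty_left H.nonempty_right

/-- With scalar levels every element is a Kronecker product. -/
theorem tens_all (hS : Small JA JB M) {g : GL (α × β) F} (hg : g ∈ M) : Tens g.1 := by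
  classical
  haveI := H.nonempty_left
  suffices hmain : ∀ r : ℕ, ∀ g ∈ M, ∀ u w : β → F, u ≠ 0 → w ≠ 0 → (JB *ᵥ u) ⬝ᵥ w = 0 →
      (blk g.1 (JB *ᵥ u) w).rank = r → Tens g.1 by
    obtain ⟨u, hu, -⟩ := exists_orth (fun i : Fin 0 => (i.elim0 : β → F)) (by have := H.five; simp; omega)
    exact hmain _ g hg u u hu hu (H.sB.self u) rfl
  intro r
  induction r using Nat.strong_induction_on with
  | _ r ih =>
  intro g hg u w hu hw ho hr
  by_contra hnt
  set P := blk g.1 (JB *ᵥ u) w with hP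
  obtain ⟨i, j, hij⟩ : ∃ i j, P i j ≠ 0 := by
    by_contra hc
    push Not at hc
    exact hnt (H.tens_of_blk_zero hS hg hu hw (Matrix.ext hc))
  obtain ⟨k, hk, hk'⟩ := H.conj_root hg w
  set X : Matrix α (α × β) F := P * (kr α (JB *ᵥ w) * (g⁻¹).1) with hX
  obtain ⟨v, hv, hv'⟩ := exists_orth (fun o : Option α => o.elim (JB *ᵥ u) fun l => fun m => X i (l, m))
    (by have := H.lt; simp; omega)
  have hblk : blk k.1 (JB *ᵥ u) v = P * blk (g⁻¹).1 (JB *ᵥ w) v := by
    have h0 : (JB *ᵥ u) ⬝ᵥ v = 0 := hv' none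
    rw [hk', blk_conj, h0, zero_smul, zero_add]
  have hrow : ∀ l, (P * blk (g⁻¹).1 (JB *ᵥ w) v) i l = 0 := fun l => by
    refine Eq.trans ?_ (hv' (some l))
    rw [blk, ← Matrix.mul_assoc P, ← hX, Matrix.mul_apply, Fintype.sum_prod_type, Option.elim,
      Fintype.sum_eq_single l (fun b hb => by simp [kc_apply, hb])]
    simp [kc_apply, dotProduct]
  have hlt : (blk k.1 (JB *ᵥ u) v).rank < r := by
    rw [hblk, ← hr]
    exact rank_mul_lt hij hrow
  have hTk := ih _ hlt k hk u v hu hv (hv' none) rfl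
  rw [hk'] at hTk
  exact hnt (H.tens_of_tens_conj hS hg hw hTk)

end Hyp

end CfsgLib.Classical.TensorSymp
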