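import Cfsg.Agent.Lib.Classical.TensorMax.Stab

set_option autoImplicit false
set_option linter.unusedSectionVars false

/-!
Alternating matrices, their symplectic transvections, adjoints, and the transitivity of the group they
generate on orthogonal pairs.
-/

namespace CfsgLib.Classical.TensorSymp

open Matrix CfsgLib.Classical.TensorMax
open scoped MatrixGroups Kronecker

variable {F : Type*} [Field F] {γ : Type} [Fintype γ] [DecidableEq γ]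

/-- An invertible alternating matrix. -/
structure AForm (J : Matrix γ γ F) : Prop where
  skew : Jᵀ = -J
  alt : ∀ x, x ⬝ᵥ J *ᵥ x = 0
  det_ne : J.det ≠ 0

/-- The adjoint with respect to `J`. -/
noncomputable def adj (J E : Matrix γ γ F) : Matrix γ γ F := J⁻¹ * Eᵀ * J

/-- Symplectic matrices. -/
def Sp (J T : Matrix γ γ F) : Prop := Tᵀ * J * T = J

/-- The transvection at `u`. -/
def tv (J : Matrix γ γ F) (u : γ → F) (c : F) : Matrix γ γ F :=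
  1 + Matrix.vecMulVec (c • u) (J *ᵥ u)

variable {J : Matrix γ γ F}

namespace AForm

variable (h : AForm J)
include h

theorem isUnit_det : IsUnit J.det := Ne.isUnit h.det_ne

theorem vecMul_eq (x : γ → F) : x ᵥ* J = -(J *ᵥ x) := by
  rw [← Matrix.mulVec_transpose, h.skew, Matrix.neg_mulVec]

theorem swap (x y : γ → F) : (J *ᵥ x) ⬝ᵥ y = -((J *ᵥ y) ⬝ᵥ x) := by
  rw [dotProduct_comm, Matrix.dotProduct_mulVec, h.vecMul_eq, neg_dotProduct]

theorem self (x : γ → F) : (J *ᵥ x) ⬝ᵥ x = 0 := by rw [dotProduct_comm, h.alt]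

theorem mulVec_eq_zero {x : γ → F} (hx : J *ᵥ x = 0) : x = 0 := by
  have := congrArg (J⁻¹ *ᵥ ·) hx
  simpa [Matrix.mulVec_mulVec, Matrix.nonsing_inv_mul J h.isUnit_det] using this

theorem mulVec_ne {x : γ → F} (hx : x ≠ 0) : J *ᵥ x ≠ 0 := fun e => hx (h.mulVec_eq_zero e)

theorem adj_add (E E' : Matrix γ γ F) : adj J (E + E') = adj J E + adj J E' := by
  rw [adj, adj, adj, Matrix.transpose_add, Matrix.mul_add, Matrix.add_mul]

theorem adj_smul (c : F) (E : Matrix γ γ F) : adj J (c • E) = c • adj J E := by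
  rw [adj, adj, Matrix.transpose_smul, Matrix.mul_smul, Matrix.smul_mul]

theorem adj_one : adj J (1 : Matrix γ γ F) = 1 := by
  rw [adj, Matrix.transpose_one, Matrix.mul_one, Matrix.nonsing_inv_mul J h.isUnit_det]

theorem adj_mul (E E' : Matrix γ γ F) : adj J (E * E') = adj J E' * adj J E := by
  simp only [adj, Matrix.transpose_mul, Matrix.mul_assoc, Matrix.mul_nonsing_inv_cancel_left J _ h.isUnit_det]

theorem adj_adj (E : Matrix γ γ F) : adj J (adj J E) = E := by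
  have e1 : J⁻¹ᵀ = -J⁻¹ := by
    rw [Matrix.transpose_nonsing_inv, h.skew]
    refine Matrix.inv_eq_right_inv ?_
    rw [Matrix.neg_mul, Matrix.mul_neg, neg_neg, Matrix.mul_nonsing_inv J h.isUnit_det]
  simp only [adj, Matrix.transpose_mul, Matrix.transpose_transpose, e1, h.skew, Matrix.mul_neg, Matrix.neg_mul,
    neg_neg, ← Matrix.mul_assoc, Matrix.nonsing_inv_mul J h.isUnit_det, Matrix.one_mul]
  simp only [Matrix.mul_assoc, Matrix.nonsing_inv_mul J h.isUnit_det, Matrix.mul_one]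

theorem adj_vecMulVec (v r : γ → F) :
    adj J (Matrix.vecMulVec v (J *ᵥ r)) = -Matrix.vecMulVec r (J *ᵥ v) := by
  rw [adj, Matrix.transpose_vecMulVec, Matrix.mul_vecMulVec, Matrix.mulVec_mulVec,
    Matrix.nonsing_inv_mul J h.isUnit_det, Matrix.one_mulVec, Matrix.vecMulVec_mul, h.vecMul_eq,
    Matrix.vecMulVec_neg]

theorem adj_of_sp {T T' : Matrix γ γ F} (hT : Sp J T) (e : T * T' = 1) : adj J T = T' := by
  have : Tᵀ * J = J * T' := by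
    calc Tᵀ * J = Tᵀ * J * (T * T') := by rw [e, Matrix.mul_one]
      _ = J * T' := by rw [← Matrix.mul_assoc, hT]
  rw [adj, Matrix.mul_assoc, this, ← Matrix.mul_assoc, Matrix.nonsing_inv_mul J h.isUnit_det, Matrix.one_mul]

theorem sp_det {T : Matrix γ γ F} (hT : Sp J T) : T.det ≠ 0 := fun e => h.det_ne (by
  rw [← hT, Matrix.det_mul, e, mul_zero])

theorem sp_inv {T : Matrix γ γ F} (hT : Sp J T) :
    T * T⁻¹ = 1 ∧ Sp J T⁻¹ := by
  have e := Matrix.mul_nonsing_inv T (Ne.isUnit (h.sp_det hT))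
  refine ⟨e, ?_⟩
  have e' : T⁻¹ᵀ * Tᵀ = 1 := by rw [← Matrix.transpose_mul, e, Matrix.transpose_one]
  calc T⁻¹ᵀ * J * T⁻¹ = T⁻¹ᵀ * (Tᵀ * J * T) * T⁻¹ := by rw [hT]
    _ = J := by
      simp only [Matrix.mul_assoc, e, Matrix.mul_one]
      rw [← Matrix.mul_assoc, e', Matrix.one_mul]

/-- The functional of the image. -/
theorem vecMul_image {T : Matrix γ γ F} (hT : Sp J T) (ψ : γ → F) :
    (J *ᵥ (T *ᵥ ψ)) ᵥ* T = J *ᵥ ψ := by
  rw [← Matrix.mulVec_transpose, Matrix.mulVec_mulVec, Matrix.mulVec_mulVec, hT]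

theorem form_image {T : Matrix γ γ F} (hT : Sp J T) (x y : γ → F) :
    (J *ᵥ (T *ᵥ x)) ⬝ᵥ (T *ᵥ y) = (J *ᵥ x) ⬝ᵥ y := by
  rw [Matrix.dotProduct_mulVec, h.vecMul_image hT]

theorem tv_apply (u : γ → F) (c : F) (x : γ → F) : tv J u c *ᵥ x = x + (c * ((J *ᵥ u) ⬝ᵥ x)) • u := by
  rw [tv, one_add_vecMulVec_mulVec, smul_smul, mul_comm]

theorem tv_mul_tv (u : γ → F) (c d : F) : tv J u c * tv J u d = tv J u (c + d) := by
  have e : Matrix.vecMulVec (c • u) (J *ᵥ u) * Matrix.vecMulVec (d • u) (J *ᵥ u) = 0 := by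
    rw [Matrix.vecMulVec_mul_vecMulVec, dotProduct_smul, h.self]; simp
  simp only [tv, Matrix.mul_add, Matrix.mul_one, Matrix.add_mul, Matrix.one_mul, e, add_smul,
    Matrix.add_vecMulVec]
  abel

theorem tv_mul_neg (u : γ → F) (c : F) : tv J u c * tv J u (-c) = 1 := by
  rw [h.tv_mul_tv, add_neg_cancel, tv, zero_smul, Matrix.zero_vecMulVec, add_zero]

theorem sp_tv (u : γ → F) (c : F) : Sp J (tv J u c) := by
  show (tv J u c)ᵀ * J * tv J u c = J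
  set X := Matrix.vecMulVec (c • u) (J *ᵥ u) with hX
  have e1 : Xᵀ * J = -(c • Matrix.vecMulVec (J *ᵥ u) (J *ᵥ u)) := by
    rw [hX, Matrix.transpose_vecMulVec, Matrix.vecMulVec_mul, Matrix.smul_vecMul, h.vecMul_eq, smul_neg,
      Matrix.vecMulVec_neg, Matrix.vecMulVec_smul]
  have e2 : J * X = c • Matrix.vecMulVec (J *ᵥ u) (J *ᵥ u) := by
    rw [hX, Matrix.mul_vecMulVec, Matrix.mulVec_smul, Matrix.smul_vecMulVec]
  have e3 : Xᵀ * J * X = 0 := by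
    rw [e1, hX, Matrix.neg_mul, Matrix.smul_mul, Matrix.vecMulVec_mul_vecMulVec, dotProduct_smul, h.self]
    simp
  rw [tv, ← hX, Matrix.transpose_add, Matrix.transpose_one, Matrix.add_mul, Matrix.one_mul, Matrix.mul_add,
    Matrix.mul_one, Matrix.add_mul, e3, e1, e2]
  abel

theorem sp_one : Sp J (1 : Matrix γ γ F) := by
  show _ = _
  rw [Matrix.transpose_one, Matrix.one_mul, Matrix.mul_one]

theorem sp_mul {S T : Matrix γ γ F} (hS : Sp J S) (hT : Sp J T) : Sp J (S * T) := by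
  show (S * T)ᵀ * J * (S * T) = J
  calc (S * T)ᵀ * J * (S * T) = Tᵀ * (Sᵀ * J * S) * T := by
        rw [Matrix.transpose_mul]; simp only [Matrix.mul_assoc]
    _ = J := by rw [hS, hT]

/-- A non-zero functional pair has a common vector off both kernels. -/
theorem exists_both {l m : γ → F} {κ : Type} [Fintype κ] (f : κ → γ → F)
    (hl : ∃ x, (∀ i, f i ⬝ᵥ x = 0) ∧ l ⬝ᵥ x ≠ 0) (hm : ∃ x, (∀ i, f i ⬝ᵥ x = 0) ∧ m ⬝ᵥ x ≠ 0) :
    ∃ x, (∀ i, f i ⬝ᵥ x = 0) ∧ l ⬝ᵥ x ≠ 0 ∧ m ⬝ᵥ x ≠ 0 := by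
  obtain ⟨x, hx, hlx⟩ := hl
  obtain ⟨y, hy, hmy⟩ := hm
  by_cases h1 : m ⬝ᵥ x = 0
  · by_cases h2 : l ⬝ᵥ y = 0
    · exact ⟨x + y, fun i => by rw [dotProduct_add, hx, hy, add_zero], by rwa [dotProduct_add, h2, add_zero],
        by rwa [dotProduct_add, h1, zero_add]⟩
    · exact ⟨y, hy, h2, hmy⟩
  · exact ⟨x, hx, hlx, h1⟩

theorem exists_form_ne {x : γ → F} (hx : x ≠ 0) : ∃ y, (J *ᵥ x) ⬝ᵥ y = 1 := by
  obtain ⟨θ, hθ⟩ := exists_dual_one (h.mulVec_ne hx)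
  exact ⟨θ, by rw [dotProduct_comm]; exact hθ⟩

/-- A vector outside the line of `w` is non-orthogonal to a vector orthogonal to `w`. -/
theorem exists_perp_ne {w x : γ → F} (hw : w ≠ 0) (hx : ∀ c : F, x ≠ c • w) (p q : F) :
    ∃ y, (J *ᵥ w) ⬝ᵥ y = p ∧ (J *ᵥ x) ⬝ᵥ y = q := by
  obtain ⟨y, e1, e2⟩ := exists_dual_pair (h.mulVec_ne hw) (v := J *ᵥ x) (fun c e => by
    rw [← Matrix.mulVec_smul] at e
    exact hx c (sub_eq_zero.1 (h.mulVec_eq_zero (by rw [Matrix.mulVec_sub, e, sub_self])))) p q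
  exact ⟨y, by rw [dotProduct_comm]; exact e1, by rw [dotProduct_comm]; exact e2⟩

/-- One transvection moving `x` to `y`. -/
theorem tv_move {x y : γ → F} (hxy : (J *ᵥ y) ⬝ᵥ x ≠ 0) :
    tv J (y - x) ((J *ᵥ y) ⬝ᵥ x)⁻¹ *ᵥ x = y := by
  rw [h.tv_apply, Matrix.mulVec_sub, sub_dotProduct, h.self, sub_zero, inv_mul_cancel₀ hxy, one_smul,
    add_sub_cancel]

/-- The group generated by transvections is transitive on orthogonal independent pairs. -/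
theorem exists_move (P : Matrix γ γ F → Prop) (h1 : P 1) (hmul : ∀ S T, P S → P T → P (S * T))
    (htv : ∀ u c, P (tv J u c)) {w ψ w' ψ' : γ → F} (hw : w ≠ 0) (hψ : ∀ c : F, ψ ≠ c • w)
    (ho : (J *ᵥ w) ⬝ᵥ ψ = 0) (hw' : w' ≠ 0) (hψ' : ∀ c : F, ψ' ≠ c • w')
    (ho' : (J *ᵥ w') ⬝ᵥ ψ' = 0) :
    ∃ T : Matrix γ γ F, P T ∧ Sp J T ∧ T *ᵥ w = w' ∧ T *ᵥ ψ = ψ' := by
  let R : Matrix γ γ F → Prop := fun T => P T ∧ Sp J T
  have rmul : ∀ S T, R S → R T → R (S * T) := fun S T hS hT => ⟨hmul _ _ hS.1 hT.1, h.sp_mul hS.2 hT.2⟩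
  have rtv : ∀ u c, R (tv J u c) := fun u c => ⟨htv u c, h.sp_tv u c⟩
  -- move the first vector
  obtain ⟨T1, hT1, e1⟩ : ∃ T1, R T1 ∧ T1 *ᵥ w = w' := by
    by_cases hne : (J *ᵥ w') ⬝ᵥ w = 0
    · obtain ⟨y, -, hy1, hy2⟩ := h.exists_both (fun i : Fin 0 => i.elim0)
        (by obtain ⟨y, hy⟩ := h.exists_form_ne hw; exact ⟨y, fun i => i.elim0, by rw [hy]; exact one_ne_zero⟩)
        (by obtain ⟨y, hy⟩ := h.exists_form_ne hw'; exact ⟨y, fun i => i.elim0, by rw [hy]; exact one_ne_zero⟩)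
      rw [h.swap] at hy1
      refine ⟨_, rmul _ _ (rtv (w' - y) ((J *ᵥ w') ⬝ᵥ y)⁻¹) (rtv (y - w) ((J *ᵥ y) ⬝ᵥ w)⁻¹), ?_⟩
      rw [← Matrix.mulVec_mulVec, h.tv_move (neg_ne_zero.1 hy1), h.tv_move hy2]
    · exact ⟨_, rtv _ _, h.tv_move hne⟩
  set ψ₁ := T1 *ᵥ ψ with hψ₁
  have o1 : (J *ᵥ w') ⬝ᵥ ψ₁ = 0 := by rw [← e1, h.form_image hT1.2, ho]
  have hψ₁' : ∀ c : F, ψ₁ ≠ c • w' := fun c e => by
    rw [← e1, ← Matrix.mulVec_smul] at e
    have := congrArg (T1⁻¹ *ᵥ ·) e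
    simp only [hψ₁, Matrix.mulVec_mulVec, mul_eq_one_comm.1 (h.sp_inv hT1.2).1, Matrix.one_mulVec] at this
    exact hψ c this
  have step : ∀ a b : γ → F, (J *ᵥ w') ⬝ᵥ a = 0 → (J *ᵥ w') ⬝ᵥ b = 0 → ∀ c : F,
      tv J (b - a) c *ᵥ w' = w' := fun a b ha hb c => by
    rw [h.tv_apply, h.swap, dotProduct_sub, hb, ha, sub_self, neg_zero, mul_zero, zero_smul, add_zero]
  obtain ⟨T2, hT2, e2, e3⟩ : ∃ T2, R T2 ∧ T2 *ᵥ w' = w' ∧ T2 *ᵥ ψ₁ = ψ' := by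
    by_cases hne : (J *ᵥ ψ') ⬝ᵥ ψ₁ = 0
    · obtain ⟨y, hy0, hy1, hy2⟩ := h.exists_both (fun _ : Fin 1 => J *ᵥ w')
        (by obtain ⟨y, a, b⟩ := h.exists_perp_ne hw' hψ₁' 0 1
            exact ⟨y, fun _ => a, by rw [b]; exact one_ne_zero⟩)
        (by obtain ⟨y, a, b⟩ := h.exists_perp_ne hw' hψ' 0 1
            exact ⟨y, fun _ => a, by rw [b]; exact one_ne_zero⟩)
      rw [h.swap] at hy1
      refine ⟨_, rmul _ _ (rtv (ψ' - y) ((J *ᵥ ψ') ⬝ᵥ y)⁻¹) (rtv (y - ψ₁) ((J *ᵥ y) ⬝ᵥ ψ₁)⁻¹), ?_, ?_⟩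
      · rw [← Matrix.mulVec_mulVec, step _ _ o1 (hy0 0), step _ _ (hy0 0) ho']
      · rw [← Matrix.mulVec_mulVec, h.tv_move (neg_ne_zero.1 hy1), h.tv_move hy2]
    · exact ⟨_, rtv _ _, step _ _ o1 ho' _, h.tv_move hne⟩
  obtain ⟨hP, hS⟩ := rmul _ _ hT2 hT1
  exact ⟨_, hP, hS, by rw [← Matrix.mulVec_mulVec, e1, e2], by rw [← Matrix.mulVec_mulVec, e3]⟩

end AForm

end CfsgLib.Classical.TensorSymp
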