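import Cfsg.Agent.Lib.Classical.TensorSymp.Forms
import Cfsg.Agent.Lib.Classical.TensorSymp.Flag

set_option autoImplicit false
set_option linter.unusedSectionVars false

/-!
Groups between the stabiliser of a product of two symplectic spaces and `Ω`: the algebra of levels of
the elements fixing a subspace `F^α ⊗ w`.
-/

namespace CfsgLib.Classical.TensorSymp

open Matrix CfsgLib.Classical.TensorMax
open scoped MatrixGroups Kronecker

variable {F : Type*} [Field F] {α β : Type} [Fintype α] [DecidableEq α] [Fintype β] [DecidableEq β]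

/-- A pure tensor. -/
def ten (a : α → F) (b : β → F) : α × β → F := fun p => a p.1 * b p.2

theorem kc_mulVec (w : β → F) (a : α → F) : kc α w *ᵥ a = ten a w := by
  ext ⟨i, k⟩
  simp [Matrix.mulVec, dotProduct, kc_apply, ten, ite_mul, Finset.sum_ite_eq, mul_comm]

theorem kron_mulVec_ten (S : Matrix α α F) (T : Matrix β β F) (a : α → F) (b : β → F) :
    (S ⊗ₖ T) *ᵥ ten a b = ten (S *ᵥ a) (T *ᵥ b) := by
  rw [← kc_mulVec, Matrix.mulVec_mulVec, kron_mul_kc, ← Matrix.mulVec_mulVec, kc_mulVec]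

theorem ten_dot (a a' : α → F) (b b' : β → F) : ten a b ⬝ᵥ ten a' b' = (a ⬝ᵥ a') * (b ⬝ᵥ b') := by
  simp only [dotProduct, ten, Fintype.sum_prod_type, Finset.sum_mul_sum]
  refine Finset.sum_congr rfl fun i _ => Finset.sum_congr rfl fun k _ => ?_
  ring

theorem matrix_ext_dot {κ : Type} [Fintype κ] [DecidableEq κ] {A B : Matrix κ κ F}
    (h : ∀ x y, x ⬝ᵥ A *ᵥ y = x ⬝ᵥ B *ᵥ y) : A = B := by
  ext i j
  simpa [Matrix.mulVec_single, single_dotProduct] using h (Pi.single i 1) (Pi.single j 1)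

/-- The setting. -/
structure Hyp (JA : Matrix α α F) (JB : Matrix β β F) (Q : QuadraticForm F (α × β → F))
    (M : Subgroup (GL (α × β) F)) : Prop where
  sA : AForm JA
  sB : AForm JB
  polar : ∀ x y, QuadraticMap.polar ⇑Q x y = x ⬝ᵥ (JA ⊗ₖ JB) *ᵥ y
  pure : ∀ a b, Q (ten a b) = 0
  two_le : 2 ≤ Fintype.card α
  lt : Fintype.card α + 2 ≤ Fintype.card β
  five : 5 ≤ Fintype.card β
  excl : 3 ≤ Fintype.card α ∨ ∃ t : F, t ≠ 0 ∧ t ≠ 1
  le : M ≤ Cfsg.Geo.omegaGL ⇑Q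
  tens : ∀ g : GL (α × β) F, g ∈ Cfsg.Geo.omegaGL ⇑Q → Tens g.1 → g ∈ M

/-- The nilpotent part of a level element. -/
noncomputable def Np (JA : Matrix α α F) (JB : Matrix β β F) (w ψ : β → F) (E : Matrix α α F) :
    Matrix (α × β) (α × β) F :=
  kc α w * E * kr α (JB *ᵥ ψ) + kc α ψ * adj JA E * kr α (JB *ᵥ w)

/-- A central element of the radical. -/
def Zm (JB : Matrix β β F) (w : β → F) (C : Matrix α α F) : Matrix (α × β) (α × β) F :=
  kc α w * C * kr α (JB *ᵥ w)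

/-- The levels which occur in `M`. -/
def D (JA : Matrix α α F) (JB : Matrix β β F) (M : Subgroup (GL (α × β) F)) (E : Matrix α α F) : Prop :=
  ∀ w ψ : β → F, w ≠ 0 → (∀ c : F, ψ ≠ c • w) → (JB *ᵥ w) ⬝ᵥ ψ = 0 → InM M (1 + Np JA JB w ψ E)

namespace Hyp

variable [Finite F] {JA : Matrix α α F} {JB : Matrix β β F} {Q : QuadraticForm F (α × β → F)}
  {M : Subgroup (GL (α × β) F)} (H : Hyp JA JB Q M)
include H

theorem polar_ten (a a' : α → F) (b b' : β → F) :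
    QuadraticMap.polar ⇑Q (ten a b) (ten a' b') = (a ⬝ᵥ JA *ᵥ a') * (b ⬝ᵥ JB *ᵥ b') := by
  rw [H.polar, kron_mulVec_ten, ten_dot]

theorem nondeg : CfsgLib.Orth.Nondeg Q := by
  intro x hx
  have hd : IsUnit (JA ⊗ₖ JB).det := by
    rw [Matrix.det_kronecker]
    exact (H.sA.isUnit_det.pow _).mul (H.sB.isUnit_det.pow _)
  have h0 : x ᵥ* (JA ⊗ₖ JB) = 0 := by
    ext p
    have := hx (Pi.single p 1)
    rw [H.polar, Matrix.dotProduct_mulVec, dotProduct_single, mul_one] at this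
    exact this
  have := congrArg (· ᵥ* (JA ⊗ₖ JB)⁻¹) h0
  simpa [Matrix.vecMul_vecMul, Matrix.mul_nonsing_inv _ hd] using this

theorem iso_mem {g : GL (α × β) F} (hg : g ∈ M) : g ∈ Cfsg.isometryGroup F ⇑Q :=
  Subgroup.map_subtype_le _ (H.le hg)

theorem gram {g : GL (α × β) F} (hg : g ∈ Cfsg.isometryGroup F ⇑Q) :
    g.1ᵀ * (JA ⊗ₖ JB) * g.1 = JA ⊗ₖ JB := by
  refine matrix_ext_dot fun x y => ?_
  have e := CfsgLib.Orth.ap_b (⟨g, hg⟩ : CfsgLib.Orth.Grp Q) x y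
  rw [H.polar, H.polar] at e
  rw [← e, ← Matrix.mulVec_mulVec, ← Matrix.mulVec_mulVec, Matrix.dotProduct_mulVec x g.1ᵀ, Matrix.vecMul_transpose]
  rfl

theorem kc_transpose_mul (y : β → F) :
    (kc α y : Matrix (α × β) α F)ᵀ * (JA ⊗ₖ JB) = -(JA * kr α (JB *ᵥ y)) := by
  have e : (kc α y : Matrix (α × β) α F)ᵀ = kr α y := by
    ext i ⟨j, k⟩
    simp [kc_apply, kr_apply, eq_comm]
  rw [e, kr_mul_kron, H.sB.vecMul_eq, ← Matrix.mul_neg]
  congr 1
  ext i ⟨j, k⟩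
  simp only [kr_apply, Matrix.neg_apply, Pi.neg_apply]
  split <;> simp

/-- The adjoint rule. -/
theorem adjoint {g : GL (α × β) F} (hg : g ∈ M) {y y' w : β → F} {E : Matrix α α F}
    (h : g.1 * kc α y = kc α y' + kc α w * E) :
    kr α (JB *ᵥ y) * (g⁻¹).1 = kr α (JB *ᵥ y') + adj JA E * kr α (JB *ᵥ w) := by
  have hJ : (JA ⊗ₖ JB) * (g⁻¹).1 = g.1ᵀ * (JA ⊗ₖ JB) := by
    conv_lhs => rw [← H.gram (H.iso_mem hg)]
    rw [Matrix.mul_assoc _ g.1, g.mul_inv, Matrix.mul_one]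
  have e : -(JA * (kr α (JB *ᵥ y) * (g⁻¹).1)) =
      -(JA * kr α (JB *ᵥ y')) - Eᵀ * (JA * kr α (JB *ᵥ w)) := by
    rw [← Matrix.mul_assoc, ← Matrix.neg_mul, ← H.kc_transpose_mul, Matrix.mul_assoc, hJ, ← Matrix.mul_assoc,
      ← Matrix.transpose_mul, h, Matrix.transpose_add, Matrix.add_mul, H.kc_transpose_mul, Matrix.transpose_mul,
      Matrix.mul_assoc, H.kc_transpose_mul, Matrix.mul_neg, sub_eq_add_neg]
  have e2 := congrArg (fun X => -(JA⁻¹ * X)) e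
  simp only [Matrix.mul_neg, Matrix.mul_sub, neg_neg, neg_sub, Matrix.nonsing_inv_mul_cancel_left JA _ H.sA.isUnit_det,
    ← Matrix.mul_assoc, Matrix.nonsing_inv_mul JA H.sA.isUnit_det, Matrix.one_mul] at e2
  rw [e2, adj]
  abel

theorem adjoint_fix {g : GL (α × β) F} (hg : g ∈ M) {y : β → F} (h : g.1 * kc α y = kc α y) :
    kr α (JB *ᵥ y) * (g⁻¹).1 = kr α (JB *ᵥ y) := by
  rw [H.adjoint hg (y' := y) (w := y) (E := 0) (by rw [h, Matrix.mul_zero, add_zero])]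
  simp [adj]

/-- A Kronecker product of symplectic matrices is an isometry. -/
theorem kron_iso {S : Matrix α α F} {T : Matrix β β F} (hS : Sp JA S) (hT : Sp JB T) (z : α × β → F) :
    Q ((S ⊗ₖ T) *ᵥ z) = Q z := by
  classical
  have hadd : ∀ x y, QuadraticMap.polar ⇑Q ((S ⊗ₖ T) *ᵥ x) ((S ⊗ₖ T) *ᵥ y) = QuadraticMap.polar ⇑Q x y := by
    intro x y
    have hg : (S ⊗ₖ T)ᵀ * (JA ⊗ₖ JB) * (S ⊗ₖ T) = JA ⊗ₖ JB := by
      rw [← Matrix.kroneckerMap_transpose, ← Matrix.mul_kronecker_mul, ← Matrix.mul_kronecker_mul, hS, hT]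
    rw [H.polar, H.polar]
    conv_rhs => rw [← hg]
    rw [← Matrix.mulVec_mulVec, ← Matrix.mulVec_mulVec, Matrix.dotProduct_mulVec x (S ⊗ₖ T)ᵀ,
      Matrix.vecMul_transpose]
  have hbase : ∀ (p : α × β) (c : F), Pi.single p c = ten (Pi.single p.1 c) (Pi.single p.2 1) := by
    rintro ⟨i, k⟩ c
    ext ⟨j, l⟩
    simp [ten, Pi.single_apply, Prod.ext_iff]
    split_ifs <;> simp_all
  suffices h : ∀ s : Finset (α × β), Q ((S ⊗ₖ T) *ᵥ ∑ p ∈ s, Pi.single p (z p)) = Q (∑ p ∈ s, Pi.single p (z p)) by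
    have := h Finset.univ
    rwa [Finset.univ_sum_single] at this
  intro s
  induction s using Finset.induction_on with
  | empty => simp
  | insert a s ha ih =>
    rw [Finset.sum_insert ha, Matrix.mulVec_add, CfsgLib.Orth.q_add, CfsgLib.Orth.q_add, ih, hadd]
    congr 2
    rw [hbase, kron_mulVec_ten, H.pure, H.pure]

theorem nonempty_left : Nonempty α := Fintype.card_pos_iff.1 (by have := H.two_le; omega)

theorem nonempty_right : Nonempty β := Fintype.card_pos_iff.1 (by have := H.five; omega)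

theorem five_le_dim : 5 ≤ Module.finrank F (α × β → F) := by
  rw [Module.finrank_pi, Fintype.card_prod]
  have := H.two_le
  have := H.five
  nlinarith

/-- Elements generated by Siegel transformations lie in `Ω`. -/
theorem omega_of_El {g : CfsgLib.Orth.Grp Q} (hg : g ∈ CfsgLib.Orth.El Q) :
    (g : GL (α × β) F) ∈ Cfsg.Geo.omegaGL ⇑Q :=
  ⟨g, by rw [CfsgLib.Orth.omega_eq_El H.nondeg H.five_le_dim]; exact hg, rfl⟩

theorem inM_tvB (u : β → F) (c : F) : InM M ((1 : Matrix α α F) ⊗ₖ tv JB u c) := by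
  classical
  by_cases hu : u = 0
  · exact ⟨1, M.one_mem, by simp [hu, tv]⟩
  obtain ⟨z, hz⟩ := H.sB.exists_form_ne hu
  obtain ⟨g, hg⟩ := CfsgLib.Orth.exists_iso H.nondeg ((1 : Matrix α α F) ⊗ₖ tv JB u c).mulVecLin
    (fun x => H.kron_iso H.sA.sp_one (H.sB.sp_tv u c) x)
  have hval : ((g : GL (α × β) F)).1 = (1 : Matrix α α F) ⊗ₖ tv JB u c := Matrix.ext_iff_mulVec.2 hg
  refine ⟨_, H.tens _ (H.omega_of_El ?_) ⟨_, _, hval⟩, hval⟩
  refine CfsgLib.Orth.mem_El_of_flag H.nondeg (fun i : α => ten (Pi.single i 1) u)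
    (fun i => ten (JA⁻¹ *ᵥ Pi.single i 1) (-z)) (fun i => H.pure _ _) (fun i j => ?_) (fun i j => ?_) g
    (fun i => ?_) (fun y _ => ?_)
  · rw [H.polar_ten, H.sB.alt, mul_zero]
  · rw [H.polar_ten, Matrix.mulVec_mulVec, Matrix.mul_nonsing_inv JA H.sA.isUnit_det, Matrix.one_mulVec,
      single_dotProduct, one_mul, Matrix.mulVec_neg, dotProduct_neg, dotProduct_comm u, H.sB.swap, hz, neg_neg,
      mul_one]
    simp [Pi.single_apply]
  · rw [hg, Matrix.mulVecLin_apply, kron_mulVec_ten, Matrix.one_mulVec, H.sB.tv_apply, H.sB.self, mul_zero,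
      zero_smul, add_zero]
  · rw [hg, Matrix.mulVecLin_apply, tv, Matrix.kronecker_add, Matrix.one_kronecker_one, Matrix.add_mulVec,
      Matrix.one_mulVec, add_sub_cancel_left, ← kc_mul_kr, ← Matrix.mulVec_mulVec]
    refine (Submodule.mem_span_range_iff_exists_fun F).2 ⟨c • (kr α (JB *ᵥ u) *ᵥ y), ?_⟩
    rw [kc_smul, Matrix.smul_mulVec, kc_mulVec]
    ext ⟨i, k⟩
    simp [ten, Finset.sum_apply, Pi.single_apply, mul_assoc]

theorem inM_tvA (u : α → F) (c : F) : InM M (tv JA u c ⊗ₖ (1 : Matrix β β F)) := by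
  classical
  by_cases hu : u = 0
  · exact ⟨1, M.one_mem, by simp [hu, tv]⟩
  obtain ⟨z, hz⟩ := H.sA.exists_form_ne hu
  obtain ⟨g, hg⟩ := CfsgLib.Orth.exists_iso H.nondeg (tv JA u c ⊗ₖ (1 : Matrix β β F)).mulVecLin
    (fun x => H.kron_iso (H.sA.sp_tv u c) H.sB.sp_one x)
  have hval : ((g : GL (α × β) F)).1 = tv JA u c ⊗ₖ (1 : Matrix β β F) := Matrix.ext_iff_mulVec.2 hg
  refine ⟨_, H.tens _ (H.omega_of_El ?_) ⟨_, _, hval⟩, hval⟩
  refine CfsgLib.Orth.mem_El_of_flag H.nondeg (fun k : β => ten u (Pi.single k 1))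
    (fun k => ten (-z) (JB⁻¹ *ᵥ Pi.single k 1)) (fun i => H.pure _ _) (fun i j => ?_) (fun i j => ?_) g
    (fun i => ?_) (fun y _ => ?_)
  · rw [H.polar_ten, H.sA.alt, zero_mul]
  · rw [H.polar_ten, Matrix.mulVec_mulVec, Matrix.mul_nonsing_inv JB H.sB.isUnit_det, Matrix.one_mulVec,
      single_dotProduct, one_mul, Matrix.mulVec_neg, dotProduct_neg, dotProduct_comm u, H.sA.swap, hz, neg_neg,
      one_mul]
    simp [Pi.single_apply]
  · rw [hg, Matrix.mulVecLin_apply, kron_mulVec_ten, Matrix.one_mulVec, H.sA.tv_apply, H.sA.self, mul_zero,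
      zero_smul, add_zero]
  · rw [hg, Matrix.mulVecLin_apply, tv, Matrix.add_kronecker, Matrix.one_kronecker_one, Matrix.add_mulVec,
      Matrix.one_mulVec, add_sub_cancel_left]
    refine (Submodule.mem_span_range_iff_exists_fun F).2 ⟨fun k => c * ∑ j, (JA *ᵥ u) j * y (j, k), ?_⟩
    ext ⟨i, k⟩
    simp [ten, Finset.sum_apply, Pi.single_apply, Matrix.mulVec, dotProduct, Fintype.sum_prod_type,
      Matrix.kroneckerMap_apply, Matrix.vecMulVec_apply, Matrix.one_apply, Finset.mul_sum, Finset.sum_mul,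
      mul_comm, mul_left_comm]
    refine Finset.sum_congr rfl fun _ _ => Finset.sum_congr rfl fun _ _ => ?_
    ring

theorem np_mul_kc (w ψ y : β → F) (E : Matrix α α F) : Np JA JB w ψ E * kc α y =
    ((JB *ᵥ ψ) ⬝ᵥ y) • (kc α w * E) + ((JB *ᵥ w) ⬝ᵥ y) • (kc α ψ * adj JA E) := by
  simp only [Np, Matrix.add_mul, Matrix.mul_assoc, kr_mul_kc, Matrix.mul_smul, Matrix.mul_one]

theorem np_sq {w ψ : β → F} (ho : (JB *ᵥ w) ⬝ᵥ ψ = 0) (E E' : Matrix α α F) :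
    Np JA JB w ψ E * Np JA JB w ψ E' = 0 := by
  have hoψ : (JB *ᵥ ψ) ⬝ᵥ w = 0 := by rw [H.sB.swap, ho, neg_zero]
  conv_lhs => rw [Np.eq_def JA JB w ψ E']
  rw [Matrix.mul_add, ← Matrix.mul_assoc, ← Matrix.mul_assoc, ← Matrix.mul_assoc, ← Matrix.mul_assoc,
    H.np_mul_kc, H.np_mul_kc, hoψ, ho, H.sB.self, H.sB.self]
  simp

theorem np_add (w ψ : β → F) (E E' : Matrix α α F) :
    Np JA JB w ψ (E + E') = Np JA JB w ψ E + Np JA JB w ψ E' := by
  simp only [Np, H.sA.adj_add, Matrix.mul_add, Matrix.add_mul]; abel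

theorem np_smul (c : F) (w ψ : β → F) (E : Matrix α α F) :
    Np JA JB w ψ (c • E) = c • Np JA JB w ψ E := by
  simp only [Np, H.sA.adj_smul, Matrix.mul_smul, Matrix.smul_mul, smul_add]

theorem np_conj {S : Matrix α α F} {T : Matrix β β F} (hS : Sp JA S) (hT : Sp JB T) (w ψ : β → F)
    (E : Matrix α α F) : (S ⊗ₖ T) * Np JA JB w ψ E * (S⁻¹ ⊗ₖ T⁻¹) =
      Np JA JB (T *ᵥ w) (T *ᵥ ψ) (S * E * S⁻¹) := by
  have hphi : ∀ v : β → F, (JB *ᵥ v) ᵥ* T⁻¹ = JB *ᵥ (T *ᵥ v) := fun v => by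
    rw [← H.sB.vecMul_image hT v, Matrix.vecMul_vecMul, (H.sB.sp_inv hT).1, Matrix.vecMul_one]
  have hadj : adj JA (S * E * S⁻¹) = S * adj JA E * S⁻¹ := by
    have e1 := (H.sA.sp_inv hS).1
    rw [H.sA.adj_mul, H.sA.adj_mul, H.sA.adj_of_sp hS e1, H.sA.adj_of_sp (H.sA.sp_inv hS).2
      (mul_eq_one_comm.1 e1), ← Matrix.mul_assoc]
  simp only [Np, Matrix.mul_add, Matrix.add_mul, ← Matrix.mul_assoc, kron_mul_kc, hadj]
  simp only [Matrix.mul_assoc, kr_mul_kron, hphi]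

theorem inM_inv {X Y : Matrix (α × β) (α × β) F} (h : InM M X) (e : X * Y = 1) : InM M Y := by
  obtain ⟨g, hg, rfl⟩ := h
  exact ⟨g⁻¹, M.inv_mem hg, Units.inv_eq_of_mul_eq_one_right e⟩

/-- Products of transvections of the second factor. -/
theorem move {w ψ w' ψ' : β → F} (hw : w ≠ 0) (hψ : ∀ c : F, ψ ≠ c • w) (ho : (JB *ᵥ w) ⬝ᵥ ψ = 0)
    (hw' : w' ≠ 0) (hψ' : ∀ c : F, ψ' ≠ c • w') (ho' : (JB *ᵥ w') ⬝ᵥ ψ' = 0) :
    ∃ T : Matrix β β F, InM M ((1 : Matrix α α F) ⊗ₖ T) ∧ Sp JB T ∧ T *ᵥ w = w' ∧ T *ᵥ ψ = ψ' := by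
  refine H.sB.exists_move (fun T => InM M ((1 : Matrix α α F) ⊗ₖ T)) ⟨1, M.one_mem, by simp⟩ (fun S T hS hT => ?_)
    H.inM_tvB hw hψ ho hw' hψ' ho'
  show InM M ((1 : Matrix α α F) ⊗ₖ (S * T))
  have := hS.mul hT
  rwa [← Matrix.mul_kronecker_mul, Matrix.one_mul] at this

theorem inM_conj {S : Matrix α α F} {T : Matrix β β F} (hS : Sp JA S) (hT : Sp JB T) (hn : InM M (S ⊗ₖ T))
    {w ψ : β → F} {E : Matrix α α F} (h : InM M (1 + Np JA JB w ψ E)) :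
    InM M (1 + Np JA JB (T *ᵥ w) (T *ᵥ ψ) (S * E * S⁻¹)) := by
  have e1 : (S ⊗ₖ T) * (S⁻¹ ⊗ₖ T⁻¹) = 1 := by
    rw [← Matrix.mul_kronecker_mul, (H.sA.sp_inv hS).1, (H.sB.sp_inv hT).1, Matrix.one_kronecker_one]
  have := (hn.mul h).mul (H.inM_inv hn e1)
  rwa [Matrix.mul_add, Matrix.mul_one, Matrix.add_mul, e1, H.np_conj hS hT] at this

/-- The unipotent element of the second factor of a pair. -/
theorem inM_pair {w ψ : β → F} (ho : (JB *ᵥ w) ⬝ᵥ ψ = 0) (c : F) :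
    InM M (1 + c • Np JA JB w ψ (1 : Matrix α α F)) := by
  have hoψ : (JB *ᵥ ψ) ⬝ᵥ w = 0 := by rw [H.sB.swap, ho, neg_zero]
  have key : tv JB (w + ψ) c * tv JB w (-c) * tv JB ψ (-c) =
      1 + c • (Matrix.vecMulVec w (JB *ᵥ ψ) + Matrix.vecMulVec ψ (JB *ᵥ w)) := by
    have e : ∀ d u, tv JB u d = 1 + d • Matrix.vecMulVec u (JB *ᵥ u) := fun d u => by
      rw [tv, Matrix.smul_vecMulVec]
    have z : ∀ a b : β → F, (JB *ᵥ a) ⬝ᵥ b = 0 →
        Matrix.vecMulVec a (JB *ᵥ a) * Matrix.vecMulVec b (JB *ᵥ b) = 0 := fun a b h => by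
      rw [Matrix.vecMulVec_mul_vecMulVec, h]; simp
    have z1 := z (w + ψ) w (by rw [Matrix.mulVec_add, add_dotProduct, H.sB.self, hoψ, add_zero])
    have z2 := z (w + ψ) ψ (by rw [Matrix.mulVec_add, add_dotProduct, ho, H.sB.self, add_zero])
    have z3 := z w ψ ho
    have k : ∀ (d : F) (X Y Z : Matrix β β F), X * Y = 0 → X * Z = 0 → Y * Z = 0 →
        (1 + c • X) * (1 + d • Y) * (1 + d • Z) = 1 + (c • X + d • Y + d • Z) := by
      intro d X Y Z h1 h2 h3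
      simp only [Matrix.mul_add, Matrix.add_mul, Matrix.mul_one, Matrix.one_mul, Matrix.smul_mul, Matrix.mul_smul,
        h1, h2, h3, smul_zero, add_zero, zero_add, Matrix.zero_mul]
      abel
    rw [e, e, e, k _ _ _ _ z1 z2 z3, neg_smul, neg_smul, ← sub_eq_add_neg, ← sub_eq_add_neg, ← smul_sub, ← smul_sub]
    congr 2
    simp only [Matrix.mulVec_add, Matrix.add_vecMulVec, Matrix.vecMulVec_add]
    abel
  have h := ((H.inM_tvB (w + ψ) c).mul (H.inM_tvB w (-c))).mul (H.inM_tvB ψ (-c))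
  rw [← Matrix.mul_kronecker_mul, ← Matrix.mul_kronecker_mul, key, Matrix.one_mul, Matrix.one_mul,
    Matrix.kronecker_add, Matrix.one_kronecker_one, Matrix.kronecker_smul, Matrix.kronecker_add, ← kc_mul_kr,
    ← kc_mul_kr] at h
  rwa [Np, H.sA.adj_one, Matrix.mul_one, Matrix.mul_one]

theorem d_add {E E' : Matrix α α F} (h : D JA JB M E) (h' : D JA JB M E') : D JA JB M (E + E') := by
  intro w ψ hw hψ ho
  have := (h w ψ hw hψ ho).mul (h' w ψ hw hψ ho)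
  rwa [Matrix.mul_add, Matrix.mul_one, Matrix.add_mul, Matrix.one_mul, H.np_sq ho, add_zero, add_assoc,
    ← H.np_add] at this

theorem exists_orth_indep {κ : Type} [Fintype κ] (f : κ → β → F) {w : β → F}
    (hκ : Fintype.card κ + 2 ≤ Fintype.card β) :
    ∃ r : β → F, (∀ c : F, r ≠ c • w) ∧ ∀ i, f i ⬝ᵥ r = 0 := by
  by_cases hw : w = 0
  · obtain ⟨r, hr, hr'⟩ := exists_orth f (by omega)
    exact ⟨r, fun c => by rw [hw, smul_zero]; exact hr, hr'⟩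
  obtain ⟨θ, hθ⟩ := exists_dual_one hw
  obtain ⟨r, hr, hr'⟩ := exists_orth (fun i : Option κ => i.elim θ f) (by simp; omega)
  refine ⟨r, fun c e => hr ?_, fun i => hr' (some i)⟩
  have := hr' none
  rw [Option.elim, e, dotProduct_smul, hθ, smul_eq_mul, mul_one] at this
  rw [e, this, zero_smul]

/-- The level of an element fixing `F^α ⊗ w`. -/
theorem level {h : GL (α × β) F} (hh : h ∈ M) {w ψ : β → F} (hw : w ≠ 0) (hψ : ∀ c : F, ψ ≠ c • w)
    (ho : (JB *ᵥ w) ⬝ᵥ ψ = 0) {E : Matrix α α F} (hfix : h.1 * kc α w = kc α w)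
    (hlev : h.1 * kc α ψ = kc α ψ + kc α w * E) (c : F) : D JA JB M (c • E) := by
  have hoψ : (JB *ᵥ ψ) ⬝ᵥ w = 0 := by rw [H.sB.swap, ho, neg_zero]
  obtain ⟨ψ', p1, p2⟩ := H.sB.exists_perp_ne hw hψ 0 1
  obtain ⟨r, hr, hr'⟩ := H.exists_orth_indep ![JB *ᵥ w, JB *ᵥ ψ, JB *ᵥ ψ'] (w := w)
    (by simpa using H.five)
  have r1 : (JB *ᵥ w) ⬝ᵥ r = 0 := hr' 0
  have r2 : (JB *ᵥ ψ) ⬝ᵥ r = 0 := hr' 1
  have r3 : (JB *ᵥ ψ') ⬝ᵥ r = 0 := hr' 2
  have r3' : (JB *ᵥ r) ⬝ᵥ ψ' = 0 := by rw [H.sB.swap, r3, neg_zero]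
  have r1' : (JB *ᵥ r) ⬝ᵥ w = 0 := by rw [H.sB.swap, r1, neg_zero]
  have q1 : (JB *ᵥ ψ') ⬝ᵥ w = 0 := by rw [H.sB.swap, p1, neg_zero]
  -- first the element with level on `ψ`
  have hX : InM M (1 + c • (Np JA JB w ψ E + Zm JB w (E * adj JA E))) := by
    obtain ⟨n, hn, hn'⟩ := H.inM_tvB ψ c
    obtain ⟨n2, hn2, hn2'⟩ := H.inM_tvB ψ (-c)
    refine ⟨h * n * h⁻¹ * n2, M.mul_mem (M.mul_mem (M.mul_mem hh hn) (M.inv_mem hh)) hn2, ?_⟩
    have hadj := H.adjoint hh hlev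
    have hkk : ∀ d : F, (1 : Matrix α α F) ⊗ₖ tv JB ψ d = 1 + d • (kc α ψ * kr α (JB *ᵥ ψ)) := fun d => by
      rw [tv, Matrix.kronecker_add, Matrix.one_kronecker_one, Matrix.smul_vecMulVec, Matrix.kronecker_smul,
        ← kc_mul_kr]
    rw [hkk] at hn' hn2'
    set Ψ : Matrix (α × β) (α × β) F := kc α ψ * kr α (JB *ᵥ ψ) with hΨ
    have e1 : h.1 * Ψ * (h⁻¹).1 = Ψ + (Np JA JB w ψ E + Zm JB w (E * adj JA E)) := by
      rw [hΨ, ← Matrix.mul_assoc, hlev, Matrix.mul_assoc, hadj]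
      simp only [Np, Zm, Matrix.add_mul, Matrix.mul_add, Matrix.mul_assoc]
      abel
    have e2 : (Ψ + (Np JA JB w ψ E + Zm JB w (E * adj JA E))) * Ψ = 0 := by
      rw [hΨ, ← Matrix.mul_assoc, Matrix.add_mul (kc α ψ * kr α (JB *ᵥ ψ)), Matrix.add_mul (Np JA JB w ψ E),
        Matrix.mul_assoc (kc α ψ) (kr α _), kr_mul_kc, H.np_mul_kc, Zm, Matrix.mul_assoc (kc α w * (E * adj JA E)), kr_mul_kc, ho, H.sB.self]
      simp
    have hhn : h.1 * (1 + c • Ψ) * (h⁻¹).1 = 1 + c • (Ψ + (Np JA JB w ψ E + Zm JB w (E * adj JA E))) := by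
      rw [Matrix.mul_add, Matrix.mul_one, Matrix.mul_smul, Matrix.add_mul, Matrix.smul_mul, h.mul_inv, e1]
    rw [Units.val_mul, Units.val_mul, Units.val_mul, hn', hn2', hhn, Matrix.mul_add, Matrix.mul_one,
      Matrix.add_mul, Matrix.one_mul, Matrix.mul_smul, Matrix.smul_mul, e2, smul_zero, smul_zero, add_zero,
      smul_add, neg_smul]
    abel
  -- then the commutator with a pair
  have main : InM M (1 + Np JA JB w r (c • E)) := by
    obtain ⟨x, hx, hx'⟩ := hX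
    obtain ⟨n, hn, hn'⟩ := H.inM_pair (α := α) r3 1
    obtain ⟨n2, hn2, hn2'⟩ := H.inM_pair (α := α) r3 (-1)
    refine ⟨x * n * x⁻¹ * n2, M.mul_mem (M.mul_mem (M.mul_mem hx hn) (M.inv_mem hx)) hn2, ?_⟩
    have xψ : x.1 * kc α ψ' = kc α ψ' + kc α w * (c • E) := by
      rw [hx', Matrix.add_mul, Matrix.one_mul, Matrix.smul_mul, Matrix.add_mul, H.np_mul_kc, p1, p2, Zm,
        Matrix.mul_assoc (kc α w * _), kr_mul_kc, p1]
      simp [Matrix.mul_smul]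
    have xr : x.1 * kc α r = kc α r := by
      rw [hx', Matrix.add_mul, Matrix.one_mul, Matrix.smul_mul, Matrix.add_mul, H.np_mul_kc, r1, r2, Zm,
        Matrix.mul_assoc (kc α w * _), kr_mul_kc, r1]
      simp
    have a1 := H.adjoint hx xψ
    have a2 := H.adjoint_fix hx xr
    set N' : Matrix (α × β) (α × β) F := Np JA JB ψ' r 1 with hN'
    have e1 : x.1 * N' * (x⁻¹).1 = N' + Np JA JB w r (c • E) := by
      rw [hN', Np, H.sA.adj_one, Matrix.mul_one, Matrix.mul_one, Matrix.mul_add, Matrix.add_mul,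
        ← Matrix.mul_assoc, ← Matrix.mul_assoc, xψ, xr, Matrix.mul_assoc, a2, Matrix.mul_assoc, a1, Np]
      simp only [Matrix.add_mul, Matrix.mul_add, Matrix.mul_assoc]
      abel
    have e2 : (N' + Np JA JB w r (c • E)) * N' = 0 := by
      rw [Matrix.add_mul, hN', H.np_sq r3, zero_add]
      conv_lhs => rw [Np.eq_def JA JB ψ' r]
      rw [Matrix.mul_add, ← Matrix.mul_assoc, ← Matrix.mul_assoc, ← Matrix.mul_assoc, ← Matrix.mul_assoc,
        H.np_mul_kc, H.np_mul_kc, r3', p1, H.sB.self, r1]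
      simp
    have hxn : x.1 * (1 + N') * (x⁻¹).1 = 1 + (N' + Np JA JB w r (c • E)) := by
      rw [Matrix.mul_add, Matrix.mul_one, Matrix.add_mul, x.mul_inv, e1]
    rw [Units.val_mul, Units.val_mul, Units.val_mul, hn', hn2', one_smul, neg_smul, one_smul, hxn,
      Matrix.mul_add, Matrix.mul_one, Matrix.add_mul, Matrix.one_mul, Matrix.mul_neg, e2]
    abel
  intro w₁ ψ₁ hw₁ hψ₁ ho₁
  obtain ⟨T, hT, hTs, e1, e2⟩ := H.move hw hr r1 hw₁ hψ₁ ho₁
  have := H.inM_conj H.sA.sp_one hTs hT main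
  rwa [e1, e2, Matrix.one_mul, inv_one, Matrix.mul_one] at this

end Hyp

end CfsgLib.Classical.TensorSymp
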