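import Cfsg.Agent.Lib.Classical.TensorSymp.Algebra

set_option autoImplicit false
set_option linter.unusedSectionVars false

/-!
When the levels are scalars, an element stabilising `F^α ⊗ w` is a Kronecker product.
-/

namespace CfsgLib.Classical.TensorSymp

open Matrix CfsgLib.Classical.TensorMax
open scoped MatrixGroups Kronecker

variable {F : Type*} [Field F] [Finite F] {α β : Type} [Fintype α] [DecidableEq α] [Fintype β] [DecidableEq β]
variable {JA : Matrix α α F} {JB : Matrix β β F} {Q : QuadraticForm F (α × β → F)}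
  {M : Subgroup (GL (α × β) F)}

theorem kr_mul_apply (φ : β → F) (X : Matrix (α × β) α F) (i j : α) :
    (kr α φ * X) i j = φ ⬝ᵥ fun k => X (i, k) j := by
  rw [Matrix.mul_apply, Fintype.sum_prod_type, Fintype.sum_eq_single i]
  · simp [kr_apply, dotProduct]
  · intro a ha
    simp [kr_apply, Ne.symm ha]

theorem kc_mul_apply {γ : Type} (w : β → F) (E : Matrix α γ F) (i : α) (k : β) (j : γ) :
    (kc α w * E) (i, k) j = w k * E i j := by
  rw [Matrix.mul_apply, Fintype.sum_eq_single i]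
  · simp [kc_apply]
  · intro a ha
    simp [kc_apply, Ne.symm ha]

theorem vecMul_kr (a : α → F) (φ : β → F) : a ᵥ* kr α φ = ten a φ := by
  ext ⟨i, k⟩
  simp [Matrix.vecMul, dotProduct, kr_apply, ten]

theorem eq_of_mul_kc_all {X Y : Matrix (α × β) (α × β) F} (h : ∀ v : β → F, X * kc α v = Y * kc α v) : X = Y := by
  ext p ⟨j, k⟩
  have e : ∀ Z : Matrix (α × β) (α × β) F, (Z * kc α (Pi.single k (1 : F) : β → F)) p j = Z p (j, k) := fun Z => by
    rw [Matrix.mul_apply, Fintype.sum_eq_single (j, k)]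
    · simp [kc_apply]
    · rintro ⟨a, b⟩ hne
      rw [kc_apply]
      split
      · next h1 =>
        subst h1
        have hb : b ≠ k := fun h2 => hne (by rw [h2])
        simp [Pi.single_eq_of_ne hb]
      · simp
  exact (e X).symm.trans ((congrFun₂ (h _) p j).trans (e Y))

namespace Hyp

variable (H : Hyp JA JB Q M)
include H

/-- A block with all contractions orthogonal to `w` zero lies over `w`. -/
theorem split_kc {w : β → F} {θ : β → F} (hθ : θ ⬝ᵥ w = 1) {X : Matrix (α × β) α F}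
    (h : ∀ a : β → F, (JB *ᵥ w) ⬝ᵥ a = 0 → kr α (JB *ᵥ a) * X = 0) : X = kc α w * (kr α θ * X) := by
  ext ⟨i, k⟩ j
  set φ : β → F := Pi.single k 1 - w k • θ with hφ
  have hJ : JB *ᵥ (JB⁻¹ *ᵥ φ) = φ := by
    rw [Matrix.mulVec_mulVec, Matrix.mul_nonsing_inv JB H.sB.isUnit_det, Matrix.one_mulVec]
  have h0 := h (JB⁻¹ *ᵥ φ) (by
    rw [H.sB.swap, hJ, hφ, sub_dotProduct, smul_dotProduct, hθ, single_dotProduct, one_mul, smul_eq_mul, mul_one,
      sub_self, neg_zero])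
  rw [hJ, hφ, kr_sub, kr_smul, Matrix.sub_mul, Matrix.smul_mul, sub_eq_zero] at h0
  have h1 := congrFun₂ h0 i j
  rw [kr_mul_apply, single_dotProduct, one_mul, Matrix.smul_apply, smul_eq_mul] at h1
  rw [h1, kc_mul_apply]

/-- A Kronecker product respecting the form is an isometry. -/
theorem tens_iso {S : Matrix α α F} {T : Matrix β β F}
    (hg : (S ⊗ₖ T)ᵀ * (JA ⊗ₖ JB) * (S ⊗ₖ T) = JA ⊗ₖ JB) (z : α × β → F) : Q ((S ⊗ₖ T) *ᵥ z) = Q z := by
  classical
  have hadd : ∀ x y, QuadraticMap.polar ⇑Q ((S ⊗ₖ T) *ᵥ x) ((S ⊗ₖ T) *ᵥ y) = QuadraticMap.polar ⇑Q x y := by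
    intro x y
    rw [H.polar, H.polar]
    conv_rhs => rw [← hg]
    rw [← Matrix.mulVec_mulVec, ← Matrix.mulVec_mulVec, Matrix.dotProduct_mulVec x (S ⊗ₖ T)ᵀ,
      Matrix.vecMul_transpose]
  have hbase : ∀ (p : α × β) (c : F), Pi.single p c = ten (Pi.single p.1 c) (Pi.single p.2 1) := by
    rintro ⟨i, k⟩ c
    ext ⟨j, l⟩
    simp [ten, Pi.single_apply, Prod.ext_iff]
    split_ifs <;> simp_all
  suffices h : ∀ s : Finset (α × β), Q ((S ⊗ₖ T) *ᵥ ∑ p ∈ s, Pi.single p (z p)) = Q (∑ p ∈ s, Pi.single p (z p)) by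
    have := h Finset.univ
    rwa [Finset.univ_sum_single] at this
  intro s
  induction s using Finset.induction_on with
  | empty => simp
  | insert a s ha ih =>
    rw [Finset.sum_insert ha, Matrix.mulVec_add, CfsgLib.Orth.q_add, CfsgLib.Orth.q_add, ih, hadd]
    congr 2
    rw [hbase, kron_mulVec_ten, H.pure, H.pure]

/-- An element stabilising `F^α ⊗ w`. -/
theorem tens_of_stab (hS : Small JA JB M) {g : GL (α × β) F} (hg : g ∈ M) {w : β → F} (hw : w ≠ 0)
    {A : Matrix α α F} (hA : g.1 * kc α w = kc α w * A) : Tens g.1 := by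
  classical
  obtain ⟨i₀⟩ := H.nonempty_left
  haveI := H.nonempty_right
  obtain ⟨θ, hθ⟩ := exists_dual_one hw
  set A' := blk (g⁻¹).1 θ w with hA'def
  have hA' : A' * A = 1 := by
    rw [hA'def, blk, Matrix.mul_assoc, ← hA, ← Matrix.mul_assoc, Matrix.mul_assoc (kr α θ), g.inv_mul,
      Matrix.mul_one, kr_mul_kc, hθ, one_smul]
  have hAA : A * A' = 1 := mul_eq_one_comm.1 hA'
  have hginv : (g⁻¹).1 * kc α w = kc α w * A' := by
    calc (g⁻¹).1 * kc α w = (g⁻¹).1 * (kc α w * A * A') := by rw [Matrix.mul_assoc (kc α w), hAA, Matrix.mul_one]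
      _ = (g⁻¹).1 * (g.1 * kc α w * A') := by rw [hA]
      _ = kc α w * A' := by rw [← Matrix.mul_assoc, ← Matrix.mul_assoc, g.inv_mul, Matrix.one_mul]
  have hφw : kr α (JB *ᵥ w) * (g⁻¹).1 = adj JA A * kr α (JB *ᵥ w) := by
    have := H.adjoint hg (y := w) (y' := 0) (w := w) (E := A) (by
      rw [hA, show (0 : β → F) = (0 : F) • w by rw [zero_smul], kc_smul, zero_smul, zero_add])
    rwa [Matrix.mulVec_zero, kr_zero, zero_add] at this
  -- the multiplier
  obtain ⟨μ, hμ⟩ : ∃ μ : F, A * adj JA A = μ • 1 := by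
    refine hS _ (H.d_of_zm hw ?_)
    obtain ⟨t, ht, ht'⟩ := H.inM_tvB w 1
    refine ⟨g * t * g⁻¹, M.mul_mem (M.mul_mem hg ht) (M.inv_mem hg), ?_⟩
    rw [Units.val_mul, Units.val_mul, ht', tv, one_smul, Matrix.kronecker_add, Matrix.one_kronecker_one, ← kc_mul_kr,
      Matrix.mul_add, Matrix.mul_one, Matrix.add_mul, g.mul_inv, ← Matrix.mul_assoc, hA, Matrix.mul_assoc, hφw, Zm]
    simp only [Matrix.mul_assoc]
  have hμ0 : μ ≠ 0 := by
    intro h
    rw [h, zero_smul] at hμ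
    have h2 : adj JA A = 0 := by
      calc adj JA A = A' * (A * adj JA A) := by rw [← Matrix.mul_assoc, hA', Matrix.one_mul]
        _ = 0 := by rw [hμ, Matrix.mul_zero]
    have h3 := congrArg (adj JA) h2
    rw [H.sA.adj_adj] at h3
    simp [adj] at h3
    rw [h3, Matrix.zero_mul] at hAA
    exact zero_ne_one (congrFun₂ hAA i₀ i₀ |>.trans (by simp))
  have hμ' : adj JA A * A = μ • 1 := by
    calc adj JA A * A = A' * (A * adj JA A) * A := by rw [← Matrix.mul_assoc, hA', Matrix.one_mul]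
      _ = μ • 1 := by rw [hμ, Matrix.mul_smul, Matrix.mul_one, Matrix.smul_mul, hA']
  -- the contractions
  have hσ : ∀ ψ y : β → F, (JB *ᵥ w) ⬝ᵥ ψ = 0 → (JB *ᵥ w) ⬝ᵥ y = 0 →
      ∃ s : F, A * blk (g⁻¹).1 (JB *ᵥ ψ) y = s • 1 := by
    intro ψ y hψ hy
    have hψw : (JB *ᵥ ψ) ⬝ᵥ w = 0 := by rw [H.sB.swap, hψ, neg_zero]
    by_cases hyw : ∀ d : F, y ≠ d • w
    · obtain ⟨t, ht, ht'⟩ := H.inM_pair (α := α) hψ 1
      have hfix : (g * t * g⁻¹).1 * kc α w = kc α w := by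
        rw [Units.val_mul, Units.val_mul, Matrix.mul_assoc, hginv, Matrix.mul_assoc, ← Matrix.mul_assoc t.1, ht',
          one_smul, Matrix.add_mul, Matrix.one_mul, H.np_mul_kc, H.sB.self, hψw, zero_smul, zero_smul, add_zero,
          add_zero, ← Matrix.mul_assoc, hA, Matrix.mul_assoc, hAA, Matrix.mul_one]
      have hlev : (g * t * g⁻¹).1 * kc α y = kc α y + kc α w * (A * blk (g⁻¹).1 (JB *ᵥ ψ) y) := by
        have e : kr α (JB *ᵥ w) * ((g⁻¹).1 * kc α y) = 0 := by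
          rw [← Matrix.mul_assoc, hφw, Matrix.mul_assoc, kr_mul_kc, hy, zero_smul, Matrix.mul_zero]
        rw [Units.val_mul, Units.val_mul, ht', one_smul, Np, H.sA.adj_one, Matrix.mul_one, Matrix.mul_one]
        simp only [Matrix.mul_assoc, Matrix.add_mul, Matrix.one_mul, Matrix.mul_add, e, Matrix.mul_zero, add_zero]
        rw [← Matrix.mul_assoc g.1 (g⁻¹).1, g.mul_inv, Matrix.one_mul, ← Matrix.mul_assoc g.1 (kc α w), hA, blk]
        simp only [Matrix.mul_assoc]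
      obtain ⟨s, hs⟩ := hS _ (H.level (M.mul_mem (M.mul_mem hg ht) (M.inv_mem hg)) hw hyw hy hfix hlev 1)
      exact ⟨s, by rwa [one_smul] at hs⟩
    · push Not at hyw
      obtain ⟨d, rfl⟩ := hyw
      refine ⟨0, ?_⟩
      rw [blk, kc_smul, Matrix.mul_smul, Matrix.mul_assoc, hginv, ← Matrix.mul_assoc (kr α _), kr_mul_kc, hψw]
      simp
  set h : Matrix (α × β) (α × β) F := (A ⊗ₖ (1 : Matrix β β F)) * (g⁻¹).1 with hh
  have hkr : ∀ φ : β → F, (kr α φ : Matrix α (α × β) F) * h = A * kr α φ * (g⁻¹).1 := fun φ => by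
    rw [hh, ← Matrix.mul_assoc, kr_mul_kron, Matrix.vecMul_one]
  have hhw : h * kc α w = kc α w := by
    rw [hh, Matrix.mul_assoc, hginv, ← Matrix.mul_assoc, kron_mul_kc, Matrix.one_mulVec, Matrix.mul_assoc, hAA,
      Matrix.mul_one]
  have hhφ : kr α (JB *ᵥ w) * h = μ • kr α (JB *ᵥ w) := by
    rw [hkr, Matrix.mul_assoc, hφw, ← Matrix.mul_assoc, hμ, Matrix.smul_mul, Matrix.one_mul]
  have hAJ : Aᵀ * JA * A = μ • JA := by
    have e1 : JA * adj JA A = Aᵀ * JA := by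
      rw [adj, ← Matrix.mul_assoc, ← Matrix.mul_assoc, Matrix.mul_nonsing_inv JA H.sA.isUnit_det, Matrix.one_mul]
    rw [← e1, Matrix.mul_assoc, hμ', Matrix.mul_smul, Matrix.mul_one]
  have hgram : hᵀ * (JA ⊗ₖ JB) * h = μ • (JA ⊗ₖ JB) := by
    have := H.gram (H.iso_mem (M.inv_mem hg))
    calc hᵀ * (JA ⊗ₖ JB) * h
        = ((g⁻¹).1)ᵀ * ((A ⊗ₖ (1 : Matrix β β F))ᵀ * (JA ⊗ₖ JB) * (A ⊗ₖ (1 : Matrix β β F))) * (g⁻¹).1 := by
          rw [hh, Matrix.transpose_mul]; simp only [Matrix.mul_assoc]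
      _ = μ • (JA ⊗ₖ JB) := by
          rw [← Matrix.kroneckerMap_transpose, ← Matrix.mul_kronecker_mul, ← Matrix.mul_kronecker_mul,
            Matrix.transpose_one, Matrix.one_mul, Matrix.mul_one, hAJ, Matrix.smul_kronecker, Matrix.mul_smul,
            Matrix.smul_mul, this]
  -- the second factor
  set T0 : Matrix β β F := Matrix.of fun k l => h (i₀, k) (i₀, l) with hT0
  have hcon : ∀ φ y : β → F, (kr α φ * h * kc α y) i₀ i₀ = φ ⬝ᵥ (T0 *ᵥ y) := by
    intro φ y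
    rw [Matrix.mul_assoc, kr_mul_apply]
    congr 1
    ext k
    simp [Matrix.mul_apply, Fintype.sum_prod_type, kc_apply, hT0, Matrix.mulVec, dotProduct, mul_ite]
  have hT0w : T0 *ᵥ w = w := by
    ext k
    have := hcon (Pi.single k 1) w
    rw [Matrix.mul_assoc, hhw, kr_mul_kc, single_dotProduct, single_dotProduct, one_mul, one_mul,
      Matrix.smul_apply, Matrix.one_apply_eq, smul_eq_mul, mul_one] at this
    exact this.symm
  have hT0φ : ∀ y, (JB *ᵥ w) ⬝ᵥ (T0 *ᵥ y) = μ * ((JB *ᵥ w) ⬝ᵥ y) := fun y => by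
    rw [← hcon, hhφ, Matrix.smul_mul, kr_mul_kc]
    simp
  obtain ⟨z, hz⟩ := H.sB.exists_form_ne hw
  set d : F := (JB *ᵥ (T0 *ᵥ z)) ⬝ᵥ w with hd
  have hd' : d = -μ := by rw [hd, H.sB.swap, hT0φ, hz, mul_one]
  set η : β → F := d⁻¹ • (μ • (JB *ᵥ z) - (JB *ᵥ (T0 *ᵥ z)) ᵥ* T0) with hη
  have hηy : ∀ y, η ⬝ᵥ y = d⁻¹ * (μ * ((JB *ᵥ z) ⬝ᵥ y) - (JB *ᵥ (T0 *ᵥ z)) ⬝ᵥ (T0 *ᵥ y)) := fun y => by
    rw [hη, smul_dotProduct, sub_dotProduct, smul_dotProduct, ← Matrix.dotProduct_mulVec]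
    rfl
  have hηw : η ⬝ᵥ w = 0 := by
    rw [hηy, hT0w, ← hd, H.sB.swap z w, hz, hd']
    ring
  have hηz : η ⬝ᵥ z = 0 := by rw [hηy, H.sB.self, H.sB.self, mul_zero, sub_zero, mul_zero]
  set T : Matrix β β F := T0 + Matrix.vecMulVec w η with hT
  have hTy : ∀ y, T *ᵥ y = T0 *ᵥ y + (η ⬝ᵥ y) • w := fun y => by
    rw [hT, Matrix.add_mulVec, Matrix.vecMulVec_mulVec, op_smul_eq_smul]
  have hTw : T *ᵥ w = w := by rw [hTy, hT0w, hηw, zero_smul, add_zero]
  -- on the orthogonal of `w` the element is a product up to the radical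
  have hperp : ∀ y, (JB *ᵥ w) ⬝ᵥ y = 0 → ∃ E : Matrix α α F, h * kc α y = kc α (T *ᵥ y) + kc α w * E := by
    intro y hy
    refine ⟨kr α θ * (h * kc α y - kc α (T *ᵥ y)), ?_⟩
    rw [← H.split_kc hθ (X := h * kc α y - kc α (T *ᵥ y)) (fun a ha => ?_), add_sub_cancel]
    obtain ⟨s, hs⟩ := hσ a y ha hy
    have e1 : kr α (JB *ᵥ a) * h * kc α y = s • 1 := by
      rw [hkr, ← hs, blk]
      simp only [Matrix.mul_assoc]
    have e2 := hcon (JB *ᵥ a) y
    rw [e1, Matrix.smul_apply, Matrix.one_apply_eq, smul_eq_mul, mul_one] at e2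
    rw [Matrix.mul_sub, ← Matrix.mul_assoc, e1, kr_mul_kc, hTy, dotProduct_add, dotProduct_smul, ← e2,
      H.sB.swap a w, ha, neg_zero, smul_zero, add_zero, sub_self]
  have hform : ∀ a b, (JB *ᵥ w) ⬝ᵥ a = 0 → (JB *ᵥ w) ⬝ᵥ b = 0 →
      (JB *ᵥ (T *ᵥ a)) ⬝ᵥ (T *ᵥ b) = μ * ((JB *ᵥ a) ⬝ᵥ b) := by
    intro a b ha hb
    obtain ⟨Ea, hEa⟩ := hperp a ha
    obtain ⟨Eb, hEb⟩ := hperp b hb
    have key : (h * kc α a)ᵀ * (JA ⊗ₖ JB) * (h * kc α b) = μ • ((kc α a)ᵀ * (JA ⊗ₖ JB) * kc α b) := by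
      calc (h * kc α a)ᵀ * (JA ⊗ₖ JB) * (h * kc α b) = (kc α a)ᵀ * (hᵀ * (JA ⊗ₖ JB) * h) * kc α b := by
            rw [Matrix.transpose_mul]; simp only [Matrix.mul_assoc]
        _ = _ := by rw [hgram, Matrix.mul_smul, Matrix.smul_mul]
    have f1 : (JB *ᵥ w) ⬝ᵥ (T *ᵥ b) = 0 := by
      rw [hTy, dotProduct_add, hT0φ, hb, dotProduct_smul, H.sB.self]; simp
    have f2 : (JB *ᵥ (T *ᵥ a)) ⬝ᵥ w = 0 := by
      rw [H.sB.swap, hTy, dotProduct_add, hT0φ, ha, dotProduct_smul, H.sB.self]; simp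
    rw [hEa, hEb, Matrix.transpose_add, Matrix.transpose_mul] at key
    simp only [Matrix.mul_add, Matrix.add_mul, Matrix.mul_assoc Eaᵀ, H.kc_transpose_mul, Matrix.neg_mul,
      Matrix.mul_assoc JA, ← Matrix.mul_assoc (kr α _), kr_mul_kc, f1, f2, H.sB.self, zero_smul, Matrix.mul_zero,
      neg_zero, add_zero, Matrix.mul_smul, Matrix.mul_one, Matrix.zero_mul, smul_neg, neg_inj, smul_smul] at key
    have hJA0 : JA ≠ 0 := fun e => by
      haveI := H.nonempty_left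
      exact H.sA.det_ne (by rw [e, Matrix.det_zero])
    exact smul_left_injective F hJA0 key
  have hsim : ∀ a b, (JB *ᵥ (T *ᵥ a)) ⬝ᵥ (T *ᵥ b) = μ * ((JB *ᵥ a) ⬝ᵥ b) := by
    have hTz : T *ᵥ z = T0 *ᵥ z := by rw [hTy, hηz, zero_smul, add_zero]
    have hzy : ∀ y, (JB *ᵥ (T *ᵥ z)) ⬝ᵥ (T *ᵥ y) = μ * ((JB *ᵥ z) ⬝ᵥ y) := fun y => by
      have hd0 : d ≠ 0 := by rw [hd']; exact neg_ne_zero.2 hμ0
      rw [hTz, hTy, dotProduct_add, dotProduct_smul, ← hd, hηy, smul_eq_mul, mul_comm d⁻¹, mul_assoc,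
        inv_mul_cancel₀ hd0, mul_one, add_sub_cancel]
    intro a b
    set p := (JB *ᵥ w) ⬝ᵥ a with hp
    set q := (JB *ᵥ w) ⬝ᵥ b with hq
    have ha : (JB *ᵥ w) ⬝ᵥ (a - p • z) = 0 := by rw [dotProduct_sub, dotProduct_smul, hz, smul_eq_mul, mul_one, sub_self]
    have hb : (JB *ᵥ w) ⬝ᵥ (b - q • z) = 0 := by rw [dotProduct_sub, dotProduct_smul, hz, smul_eq_mul, mul_one, sub_self]
    have e0 := hform _ _ ha hb
    have e1 := hzy b
    have e2 : (JB *ᵥ (T *ᵥ (a - p • z))) ⬝ᵥ (T *ᵥ z) = μ * ((JB *ᵥ (a - p • z)) ⬝ᵥ z) := by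
      rw [H.sB.swap, hzy, H.sB.swap (a - p • z)]; ring
    simp only [Matrix.mulVec_sub, Matrix.mulVec_smul, sub_dotProduct, dotProduct_sub, smul_dotProduct,
      dotProduct_smul, smul_eq_mul, H.sB.self] at e0 e2
    linear_combination e0 + p * e1 + q * e2
  have hTT : Tᵀ * JB * T = μ • JB := by
    refine matrix_ext_dot fun x y => ?_
    have := hsim y x
    rw [← Matrix.mulVec_mulVec, ← Matrix.mulVec_mulVec, Matrix.dotProduct_mulVec x Tᵀ, Matrix.vecMul_transpose,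
      Matrix.smul_mulVec, dotProduct_smul, smul_eq_mul, dotProduct_comm, this, dotProduct_comm x]
  have hTdet : T.det ≠ 0 := fun e => by
    have := congrArg Matrix.det hTT
    rw [Matrix.det_mul, e, mul_zero, Matrix.det_smul] at this
    exact (mul_ne_zero (pow_ne_zero _ hμ0) H.sB.det_ne) this.symm
  set T' := T⁻¹ with hT'
  have hT'T : T' * T = 1 := Matrix.nonsing_inv_mul T (Ne.isUnit hTdet)
  have hT'w : T' *ᵥ w = w := by
    conv_lhs => rw [← hTw]
    rw [Matrix.mulVec_mulVec, hT'T, Matrix.one_mulVec]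
  set r : Matrix (α × β) (α × β) F := (A ⊗ₖ T') * (g⁻¹).1 with hr
  have hrh : r = ((1 : Matrix α α F) ⊗ₖ T') * h := by
    rw [hr, hh, ← Matrix.mul_assoc, ← Matrix.mul_kronecker_mul, Matrix.one_mul, Matrix.mul_one]
  have hrw : r * kc α w = kc α w := by
    rw [hrh, Matrix.mul_assoc, hhw, kron_mul_kc, hT'w, Matrix.mul_one]
  have hrperp : ∀ y, (JB *ᵥ w) ⬝ᵥ y = 0 → ∃ E : Matrix α α F, r * kc α y = kc α y + kc α w * E := by
    intro y hy
    obtain ⟨E, hE⟩ := hperp y hy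
    refine ⟨E, ?_⟩
    rw [hrh, Matrix.mul_assoc, hE, Matrix.mul_add, ← Matrix.mul_assoc, kron_mul_kc, kron_mul_kc, hT'w,
      Matrix.mulVec_mulVec, hT'T, Matrix.one_mulVec, Matrix.mul_one, Matrix.mul_one]
  have hATg : (A ⊗ₖ T')ᵀ * (JA ⊗ₖ JB) * (A ⊗ₖ T') = JA ⊗ₖ JB := by
    have e : T'ᵀ * Tᵀ = 1 := by rw [← Matrix.transpose_mul, Matrix.mul_nonsing_inv T (Ne.isUnit hTdet), Matrix.transpose_one]
    have : T'ᵀ * JB * T' = μ⁻¹ • JB := by
      have e' : JB = μ⁻¹ • (Tᵀ * JB * T) := by rw [hTT, smul_smul, inv_mul_cancel₀ hμ0, one_smul]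
      conv_lhs => rw [e']
      rw [Matrix.mul_smul, Matrix.smul_mul, ← Matrix.mul_assoc, ← Matrix.mul_assoc, e, Matrix.one_mul,
        Matrix.mul_assoc, Matrix.mul_nonsing_inv T (Ne.isUnit hTdet), Matrix.mul_one]
    rw [← Matrix.kroneckerMap_transpose, ← Matrix.mul_kronecker_mul, ← Matrix.mul_kronecker_mul, hAJ, this,
      Matrix.smul_kronecker, Matrix.kronecker_smul, smul_smul, mul_inv_cancel₀ hμ0, one_smul]
  obtain ⟨R, hR⟩ := CfsgLib.Orth.exists_iso H.nondeg r.mulVecLin (fun x => by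
    rw [Matrix.mulVecLin_apply, hr, ← Matrix.mulVec_mulVec, H.tens_iso hATg]
    exact (H.iso_mem (M.inv_mem hg)) x x)
  have hRval : ((R : GL (α × β) F)).1 = r := Matrix.ext_iff_mulVec.2 hR
  have hRom : (R : GL (α × β) F) ∈ Cfsg.Geo.omegaGL ⇑Q := by
    refine H.omega_of_El (CfsgLib.Orth.mem_El_of_flag H.nondeg (fun i : α => ten (Pi.single i 1) w)
      (fun i => ten (JA⁻¹ *ᵥ Pi.single i 1) (-z)) (fun i => H.pure _ _) (fun i j => ?_) (fun i j => ?_) R
      (fun i => ?_) (fun y hy => ?_))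
    · rw [H.polar_ten, H.sB.alt, mul_zero]
    · rw [H.polar_ten, Matrix.mulVec_mulVec, Matrix.mul_nonsing_inv JA H.sA.isUnit_det, Matrix.one_mulVec,
        single_dotProduct, one_mul, Matrix.mulVec_neg, dotProduct_neg, dotProduct_comm w, H.sB.swap, hz, neg_neg,
        mul_one]
      simp [Pi.single_apply]
    · rw [hR, Matrix.mulVecLin_apply, ← kc_mulVec, Matrix.mulVec_mulVec, hrw]
    · rw [hR, Matrix.mulVecLin_apply]
      have hy0 : kr α (JB *ᵥ w) *ᵥ y = 0 := by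
        have hyi : ∀ i, ((JA *ᵥ Pi.single i 1) : α → F) ⬝ᵥ (kr α (JB *ᵥ w) *ᵥ y) = 0 := fun i => by
          have := hy i
          rw [H.polar, ← kc_mulVec, Matrix.mulVec_mulVec, kron_mul_kc, ← Matrix.mulVec_mulVec, dotProduct_comm,
            kc_mulVec] at this
          rw [Matrix.dotProduct_mulVec, vecMul_kr]
          exact this
        have e : (kr α (JB *ᵥ w) *ᵥ y) ᵥ* JA = 0 := by
          ext i
          have := hyi i
          rw [dotProduct_comm, Matrix.dotProduct_mulVec, dotProduct_single, mul_one] at this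
          exact this
        rw [H.sA.vecMul_eq, neg_eq_zero] at e
        exact H.sA.mulVec_eq_zero e
      set P : β → β → F := fun k => Pi.single k 1 - ((JB *ᵥ w) k) • z with hP
      have hPw : ∀ k, (JB *ᵥ w) ⬝ᵥ P k = 0 := fun k => by
        rw [hP]
        simp [dotProduct_sub, dotProduct_smul, hz]
      choose E hE using fun k => hrperp (P k) (hPw k)
      have hdec : y = ∑ k, kc α (P k) *ᵥ fun i => y (i, k) := by
        ext ⟨i, l⟩
        have h0 := congrFun hy0 i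
        simp only [Matrix.mulVec, dotProduct, kr_apply, Fintype.sum_prod_type, ite_mul, zero_mul, Finset.sum_ite_irrel,
          Finset.sum_const_zero, Finset.sum_ite_eq, Finset.mem_univ, if_true, Pi.zero_apply] at h0
        have e : ∀ k, (kc α (P k) *ᵥ fun i => y (i, k)) (i, l) = P k l * y (i, k) := fun k => by
          rw [kc_mulVec, ten]; ring
        rw [Finset.sum_apply]
        simp only [e]
        simp only [hP, Pi.sub_apply, Pi.smul_apply, smul_eq_mul, sub_mul, Finset.sum_sub_distrib]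
        have e2 : ∑ k, (JB *ᵥ w) k * z l * y (i, k) = z l * ∑ k, (JB *ᵥ w) k * y (i, k) := by
          rw [Finset.mul_sum]
          exact Finset.sum_congr rfl fun k _ => by ring
        rw [e2]
        have h0' : ∑ k, (JB *ᵥ w) k * y (i, k) = 0 := h0
        rw [h0', mul_zero, sub_zero, Finset.sum_eq_single l]
        · simp
        · intro k _ hk; simp [Pi.single_eq_of_ne (Ne.symm hk)]
        · simp
      refine (Submodule.mem_span_range_iff_exists_fun F).2 ⟨∑ k, E k *ᵥ fun i => y (i, k), ?_⟩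
      have e : r *ᵥ y - y = kc α w *ᵥ ∑ k, E k *ᵥ fun i => y (i, k) := by
        conv_lhs => rw [hdec]
        rw [Matrix.mulVec_sum, Matrix.mulVec_sum, ← Finset.sum_sub_distrib]
        refine Finset.sum_congr rfl fun k _ => ?_
        rw [Matrix.mulVec_mulVec, hE, Matrix.add_mulVec, Matrix.mulVec_mulVec, add_sub_cancel_left]
      rw [e, kc_mulVec]
      ext ⟨i, k⟩
      simp [ten, Finset.sum_apply, Pi.single_apply]
  set n : GL (α × β) F := (R : GL (α × β) F) * g with hn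
  have hnval : n.1 = A ⊗ₖ T' := by
    rw [hn, Units.val_mul, hRval, hr, Matrix.mul_assoc, g.inv_mul, Matrix.mul_one]
  have hnM : n ∈ M := H.tens n ((Cfsg.Geo.omegaGL ⇑Q).mul_mem hRom (H.le hg)) ⟨A, T', hnval⟩
  have hRM : (R : GL (α × β) F) ∈ M := by
    have := M.mul_mem hnM (M.inv_mem hg)
    rwa [hn, mul_inv_cancel_right] at this
  -- the radical part
  set L : β → F := fun l => (kr α θ * (r - 1) : Matrix α (α × β) F) i₀ (i₀, l) with hL
  have hLev : ∀ a, (JB *ᵥ w) ⬝ᵥ a = 0 → r * kc α a = kc α a + (L ⬝ᵥ a) • kc α w := by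
    intro a ha
    obtain ⟨E, hE⟩ := hrperp a ha
    obtain ⟨s, hs⟩ : ∃ s : F, E = s • 1 := by
      by_cases haw : ∀ c : F, a ≠ c • w
      · have := hS _ (H.level hRM hw haw ha (by rw [hRval]; exact hrw) (by rw [hRval]; exact hE) 1)
        rwa [one_smul] at this
      · push Not at haw
        obtain ⟨c, rfl⟩ := haw
        refine ⟨0, ?_⟩
        rw [kc_smul, Matrix.mul_smul, hrw, left_eq_add] at hE
        rw [zero_smul]
        exact kc_cancel hw (by rw [hE, Matrix.mul_zero])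
    have e : L ⬝ᵥ a = s := by
      have e1 : (kr α θ * (r - 1)) * kc α a = s • 1 := by
        rw [Matrix.mul_assoc, Matrix.sub_mul, Matrix.one_mul, hE, add_sub_cancel_left, ← Matrix.mul_assoc, kr_mul_kc,
          hθ, one_smul, Matrix.one_mul, hs]
      have e2 := congrFun₂ e1 i₀ i₀
      rw [Matrix.smul_apply, Matrix.one_apply_eq, smul_eq_mul, mul_one] at e2
      rw [← e2, Matrix.mul_apply, Fintype.sum_prod_type, Fintype.sum_eq_single i₀]
      · simp [kc_apply, dotProduct, hL]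
      · intro b hb; simp [kc_apply, hb]
    rw [hE, hs, e, Matrix.mul_smul, Matrix.mul_one]
  have hLw : L ⬝ᵥ w = 0 := by
    have h0 := hLev w (H.sB.self w)
    rw [hrw, left_eq_add] at h0
    by_contra hne
    have h2 := congrArg ((kr α θ) * ·) h0
    simp only [Matrix.mul_smul, kr_mul_kc, hθ, one_smul, Matrix.mul_zero] at h2
    have h1 := congrFun₂ h2 i₀ i₀
    rw [Matrix.smul_apply, Matrix.one_apply_eq, smul_eq_mul, mul_one] at h1
    exact hne h1
  set ψ := JB⁻¹ *ᵥ L with hψ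
  have hψL : JB *ᵥ ψ = L := by
    rw [hψ, Matrix.mulVec_mulVec, Matrix.mul_nonsing_inv JB H.sB.isUnit_det, Matrix.one_mulVec]
  have hψw : (JB *ᵥ w) ⬝ᵥ ψ = 0 := by rw [H.sB.swap, hψL, hLw, neg_zero]
  obtain ⟨t, ht, ht'⟩ := H.inM_pair (α := α) hψw (-1)
  set r2 : GL (α × β) F := (R : GL (α × β) F) * t with hr2
  have hr2M : r2 ∈ M := M.mul_mem hRM ht
  have hfix : ∀ a, (JB *ᵥ w) ⬝ᵥ a = 0 → r2.1 * kc α a = kc α a := by
    intro a ha
    rw [hr2, Units.val_mul, hRval, ht', Matrix.mul_assoc, neg_smul, one_smul, Matrix.add_mul, Matrix.one_mul,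
      Matrix.neg_mul, H.np_mul_kc, hψL, ha, zero_smul, add_zero, Matrix.mul_one, Matrix.mul_add, Matrix.mul_neg,
      Matrix.mul_smul, hrw, hLev a ha]
    abel
  have hfix' : ∀ a, (JB *ᵥ w) ⬝ᵥ a = 0 → kr α (JB *ᵥ a) * r2.1 = kr α (JB *ᵥ a) := fun a ha => by
    have := congrArg (· * r2.1) (H.adjoint_fix hr2M (hfix a ha))
    simp only [Matrix.mul_assoc, r2.inv_mul, Matrix.mul_one] at this
    exact this.symm
  have hsplit := H.split_kc hθ (X := r2.1 * kc α z - kc α z) (fun a ha => by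
    rw [Matrix.mul_sub, ← Matrix.mul_assoc, hfix' a ha, sub_self])
  set C := kr α θ * (r2.1 * kc α z - kc α z) with hC
  have hr2val : r2.1 = 1 + Zm JB w C := by
    refine eq_of_mul_kc_all fun v => ?_
    rw [Matrix.add_mul, Matrix.one_mul, Zm, Matrix.mul_assoc (kc α w * C), kr_mul_kc, Matrix.mul_smul, Matrix.mul_one,
      ← hsplit]
    set p := (JB *ᵥ w) ⬝ᵥ v
    have hv : kc α v = kc α (v - p • z) + p • kc α z := by rw [← kc_smul, ← kc_add, sub_add_cancel]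
    conv_lhs => rw [hv]
    rw [Matrix.mul_add, hfix _ (by rw [dotProduct_sub, dotProduct_smul, hz, smul_eq_mul, mul_one, sub_self]),
      Matrix.mul_smul, smul_sub]
    conv_rhs => rw [hv]
    abel
  obtain ⟨c, hc⟩ := hS C (H.d_of_zm hw ⟨r2, hr2M, hr2val⟩)
  have hr2T : Tens r2.1 := ⟨1, 1 + c • Matrix.vecMulVec w (JB *ᵥ w), by
    rw [hr2val, Matrix.kronecker_add, Matrix.one_kronecker_one, Matrix.kronecker_smul, ← kc_mul_kr, Zm, hc,
      Matrix.mul_smul, Matrix.mul_one, Matrix.smul_mul]⟩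
  have htT : Tens (t⁻¹).1 := by
    refine tens_inv ⟨1, 1 + (-1 : F) • (Matrix.vecMulVec w (JB *ᵥ ψ) + Matrix.vecMulVec ψ (JB *ᵥ w)), ?_⟩ t.mul_inv
      H.nonempty_left H.nonempty_right
    rw [ht', Np, H.sA.adj_one, Matrix.mul_one, Matrix.mul_one, Matrix.kronecker_add, Matrix.one_kronecker_one,
      Matrix.kronecker_smul, Matrix.kronecker_add, kc_mul_kr, kc_mul_kr]
  have hRT : Tens ((R : GL (α × β) F)⁻¹).1 := by
    refine tens_inv ?_ (R : GL (α × β) F).mul_inv H.nonempty_left H.nonempty_right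
    have := tens_mul hr2T htT
    rwa [← Units.val_mul, hr2, mul_inv_cancel_right] at this
  have := tens_mul hRT ⟨A, T', hnval⟩
  rwa [← Units.val_mul, hn, inv_mul_cancel_left] at this

end Hyp

end CfsgLib.Classical.TensorSymp
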